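import Mathlib

set_option autoImplicit false

namespace Cfsg.Lib.PermGroups.LinearRegular

variable {p : ℕ} [Fact p.Prime] {V : Type*} [AddCommGroup V] [Module (ZMod p) V] [Finite V]
  (H : Subgroup (V ≃ₗ[ZMod p] V))

/-- `W` is invariant under the subgroup `A`. -/
def Inv (A : Subgroup H) (W : Submodule (ZMod p) V) : Prop :=
  ∀ a ∈ A, ∀ v ∈ W, ((a : H) : V ≃ₗ[ZMod p] V) v ∈ W

theorem eq_one_of_fixed (hreg : ∀ v w : V, v ≠ 0 → w ≠ 0 → ∃! h : H, (h : V ≃ₗ[ZMod p] V) v = w)
    {h : H} {v : V} (hv : v ≠ 0) (hf : (h : V ≃ₗ[ZMod p] V) v = v) : h = 1 :=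
  (hreg v v hv hv).unique hf (by simp)

variable {H}

theorem finite_lin : Finite (V ≃ₗ[ZMod p] V) :=
  Finite.of_injective (fun e : V ≃ₗ[ZMod p] V => (e : V → V)) DFunLike.coe_injective

omit [AddCommGroup V] [Module (ZMod p) V] [Finite V] in
theorem card_ne_zero_vec (M : Type*) [AddCommGroup M] [Module (ZMod p) M] [Finite M] :
    Nat.card {v : M // v ≠ 0} = p ^ Module.finrank (ZMod p) M - 1 := by
  classical
  have : Fintype M := Fintype.ofFinite M
  rw [Nat.card_eq_fintype_card, Fintype.card_subtype_compl, Fintype.card_subtype_eq,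
    ← Nat.card_eq_fintype_card, Module.natCard_eq_pow_finrank (K := ZMod p), Nat.card_zmod]

theorem exists_minimal {A : Subgroup H} [Nontrivial V] :
    ∃ W : Submodule (ZMod p) V, W ≠ ⊥ ∧ Inv H A W ∧
      ∀ W', W' ≤ W → Inv H A W' → W' = ⊥ ∨ W' = W := by
  obtain ⟨W, ⟨hW0, hW⟩, hmin⟩ := (wellFounded_lt (α := Submodule (ZMod p) V)).has_min
    {W | W ≠ ⊥ ∧ Inv H A W} ⟨⊤, by simp, fun _ _ _ _ => trivial⟩
  refine ⟨W, hW0, hW, fun W' hle hW' => ?_⟩
  by_contra! h
  exact hmin W' ⟨h.1, hW'⟩ (lt_of_le_of_ne hle h.2)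

omit [AddCommGroup V] [Module (ZMod p) V] [Finite V] in
theorem card_dvd_of_free {G X : Type*} [Group G] [MulAction G X] (h : ∀ (x : X) (g : G), g • x = x → g = 1) :
    Nat.card G ∣ Nat.card X := by
  have hst : ∀ x : X, MulAction.stabilizer G x = ⊥ := fun x =>
    (Subgroup.eq_bot_iff_forall _).2 fun g hg => h x g hg
  refine Dvd.intro_left (Nat.card (MulAction.orbitRel.Quotient G X)) ?_
  rw [← Nat.card_prod]
  let e : ∀ ω : MulAction.orbitRel.Quotient G X, G ⧸ MulAction.stabilizer G ω.out ≃ G := fun ω =>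
    ((Subgroup.groupEquivQuotientProdSubgroup (s := MulAction.stabilizer G ω.out)).trans
      (haveI : Subsingleton (MulAction.stabilizer G ω.out) := by rw [hst]; infer_instance
       haveI : Unique (MulAction.stabilizer G ω.out) := uniqueOfSubsingleton 1
       Equiv.prodUnique _ _)).symm
  exact ((Nat.card_congr (MulAction.selfEquivSigmaOrbitsQuotientStabilizer G X)).trans
    (Nat.card_congr ((Equiv.sigmaCongrRight e).trans (Equiv.sigmaEquivProd _ _)))).symm

theorem free_on_minimal (hreg : ∀ v w : V, v ≠ 0 → w ≠ 0 → ∃! h : H, (h : V ≃ₗ[ZMod p] V) v = w)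
    {A : Subgroup H} (hAc : IsMulCommutative A) {W : Submodule (ZMod p) V} (hW0 : W ≠ ⊥)
    (hW : Inv H A W) (hmin : ∀ W', W' ≤ W → Inv H A W' → W' = ⊥ ∨ W' = W) :
    IsCyclic A ∧ Nat.card A ∣ p ^ Module.finrank (ZMod p) W - 1 := by
  classical
  have := finite_lin (p := p) (V := V)
  let ρ : A →* Module.End (ZMod p) W :=
    { toFun := fun a => (((a : H) : V ≃ₗ[ZMod p] V).toLinearMap).restrict (fun v hv => hW a a.2 v hv)
      map_one' := LinearMap.ext fun v => Subtype.ext rfl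
      map_mul' := fun a b => LinearMap.ext fun v => Subtype.ext rfl }
  have hρ : ∀ (a : A) (v : W), (ρ a v : V) = ((a : H) : V ≃ₗ[ZMod p] V) v := fun a v => rfl
  have hfree : ∀ (a : A) (v : W), v ≠ 0 → ρ a v = v → a = 1 := fun a v hv h =>
    Subtype.ext (eq_one_of_fixed H hreg (fun e => hv (Subtype.ext e))
      (by rw [← hρ a v, h]))
  obtain ⟨w, hwW, hw0⟩ := Submodule.exists_mem_ne_zero_of_ne_bot hW0
  have hwne : (⟨w, hwW⟩ : W) ≠ 0 := fun e => hw0 (congrArg Subtype.val e)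
  have hcomm : ∀ x ∈ Set.range ρ, ∀ y ∈ Set.range ρ, x * y = y * x := by
    rintro _ ⟨a, rfl⟩ _ ⟨b, rfl⟩
    rw [← map_mul, ← map_mul, hAc.is_comm.comm]
  let R := Algebra.adjoin (ZMod p) (Set.range ρ)
  let _ : CommRing R := Algebra.adjoinCommRingOfComm (ZMod p) hcomm
  have hker : ∀ x : R, x ≠ 0 → Function.Injective (x : Module.End (ZMod p) W) := by
    intro x hx
    have hc : ∀ a : A, ρ a * (x : Module.End (ZMod p) W) = (x : Module.End (ZMod p) W) * ρ a := fun a =>
      congrArg Subtype.val (mul_comm (⟨ρ a, Algebra.subset_adjoin ⟨a, rfl⟩⟩ : R) x)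
    let U : Submodule (ZMod p) V := (LinearMap.ker (x : Module.End (ZMod p) W)).map W.subtype
    have hU : Inv H A U := by
      rintro a ha _ ⟨u, hu, rfl⟩
      refine ⟨ρ ⟨a, ha⟩ u, ?_, rfl⟩
      show (x : Module.End (ZMod p) W) (ρ ⟨a, ha⟩ u) = 0
      rw [← Module.End.mul_apply, ← hc, Module.End.mul_apply, LinearMap.mem_ker.1 hu, map_zero]
    rcases hmin U (Submodule.map_subtype_le _ _) hU with h | h
    · exact LinearMap.ker_eq_bot.1 (Submodule.map_injective_of_injective W.subtype_injective (h.trans (Submodule.map_bot _).symm))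
    · exfalso
      apply hx
      refine Subtype.ext (LinearMap.ext fun v => ?_)
      obtain ⟨u, hu, huv⟩ : (v : V) ∈ U := by rw [h]; exact v.2
      rw [← show u = v from Subtype.ext huv]
      exact LinearMap.mem_ker.1 hu
  have : NoZeroDivisors R := ⟨fun {x y} h => by
    by_contra! hne
    apply hne.2
    refine Subtype.ext (LinearMap.ext fun v => hker x hne.1 ?_)
    have := LinearMap.congr_fun (congrArg Subtype.val h) v
    simpa using this⟩
  have : Nontrivial R := ⟨⟨1, 0, fun h => hwne (LinearMap.congr_fun (congrArg Subtype.val h) ⟨w, hwW⟩)⟩⟩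
  have : IsDomain R := NoZeroDivisors.to_isDomain R
  let f : A →* R :=
    { toFun := fun a => ⟨ρ a, Algebra.subset_adjoin ⟨a, rfl⟩⟩
      map_one' := Subtype.ext (map_one ρ)
      map_mul' := fun a b => Subtype.ext (map_mul ρ a b) }
  have hfinj : Function.Injective f := by
    rw [injective_iff_map_eq_one]
    intro a ha
    exact hfree a ⟨w, hwW⟩ hwne (LinearMap.congr_fun (congrArg Subtype.val ha) ⟨w, hwW⟩)
  refine ⟨isCyclic_of_subgroup_isDomain f hfinj, ?_⟩
  let act : MulAction A {v : W // v ≠ 0} :=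
    { smul := fun a v => ⟨ρ a v.1, fun e => v.2 (by
        have := congrArg (ρ a⁻¹) e
        rwa [← Module.End.mul_apply, ← map_mul, inv_mul_cancel, map_one, map_zero] at this)⟩
      one_smul := fun v => Subtype.ext (by
        show ρ 1 v.1 = v.1
        rw [map_one]; rfl)
      mul_smul := fun a b v => Subtype.ext (by
        show ρ (a * b) v.1 = ρ a (ρ b v.1)
        rw [map_mul]; rfl) }
  rw [← card_ne_zero_vec (p := p) W]
  exact card_dvd_of_free (G := A) (X := {v : W // v ≠ 0}) fun v a ha =>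
    hfree a v.1 v.2 (congrArg Subtype.val ha)

theorem card_eq (hreg : ∀ v w : V, v ≠ 0 → w ≠ 0 → ∃! h : H, (h : V ≃ₗ[ZMod p] V) v = w)
    {v : V} (hv : v ≠ 0) : Nat.card H = p ^ Module.finrank (ZMod p) V - 1 := by
  classical
  let f : H → {w : V // w ≠ 0} := fun h => ⟨(h : V ≃ₗ[ZMod p] V) v, by simpa using hv⟩
  have hf : Function.Bijective f :=
    ⟨fun a b e => (hreg v (f a) hv (f a).2).unique rfl (congrArg Subtype.val e).symm,
      fun w => let ⟨h, hh, _⟩ := hreg v w hv w.2; ⟨h, Subtype.ext hh⟩⟩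
  rw [Nat.card_congr (Equiv.ofBijective f hf), card_ne_zero_vec (p := p) V]

theorem centralizer_ne (hreg : ∀ v w : V, v ≠ 0 → w ≠ 0 → ∃! h : H, (h : V ≃ₗ[ZMod p] V) v = w)
    {A : Subgroup H} (hAn : A.Normal) (hAc : IsMulCommutative A) [Nontrivial V]
    (hred : ∀ W : Submodule (ZMod p) V, W ≠ ⊥ → Inv H A W →
      (∀ W', W' ≤ W → Inv H A W' → W' = ⊥ ∨ W' = W) → W ≠ ⊤) :
    Subgroup.centralizer (A : Set H) ≠ A := by
  classical
  intro hC
  have := finite_lin (p := p) (V := V)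
  have : Finite (MulAut A) := Finite.of_injective (fun φ : MulAut A => (φ : A → A)) DFunLike.coe_injective
  obtain ⟨W, hW0, hW, hmin⟩ := exists_minimal (H := H) (A := A)
  obtain ⟨hcyc, hdvd⟩ := free_on_minimal hreg hAc hW0 hW hmin
  obtain ⟨w, hwW, hw0⟩ := Submodule.exists_mem_ne_zero_of_ne_bot hW0
  obtain ⟨u, -, hu⟩ := SetLike.exists_of_lt (lt_top_iff_ne_top.2 (hred W hW0 hW hmin))
  obtain ⟨h, hh, -⟩ := hreg w u hw0 (fun e => hu (e ▸ W.zero_mem))
  let e : V ≃ₗ[ZMod p] V := (h : V ≃ₗ[ZMod p] V)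
  have hW' : Inv H A (W.map e.toLinearMap) := by
    rintro a ha _ ⟨v, hv, rfl⟩
    refine ⟨((h⁻¹ * a * h : H) : V ≃ₗ[ZMod p] V) v, hW _ ?_ v hv, ?_⟩
    · simpa using hAn.conj_mem a ha h⁻¹
    · show ((h * (h⁻¹ * a * h) : H) : V ≃ₗ[ZMod p] V) v = ((a * h : H) : V ≃ₗ[ZMod p] V) v
      rw [show h * (h⁻¹ * a * h) = a * h by group]
  have hdis : W ⊓ W.map e.toLinearMap = ⊥ := by
    rcases hmin (W ⊓ W.map e.toLinearMap) inf_le_left
      (fun a ha v hv => ⟨hW a ha v hv.1, hW' a ha v hv.2⟩) with h1 | h1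
    · exact h1
    · exfalso
      apply hu
      have h2 : W.map e.toLinearMap = W := (Submodule.eq_of_le_of_finrank_eq (inf_eq_left.1 h1)
        (LinearEquiv.finrank_map_eq e W).symm).symm
      rw [← hh, ← h2]
      exact ⟨w, hwW, rfl⟩
  have hdim : 2 * Module.finrank (ZMod p) W ≤ Module.finrank (ZMod p) V := by
    have h1 := Submodule.finrank_sup_add_finrank_inf_eq W (W.map e.toLinearMap)
    have h2 := (W ⊔ W.map e.toLinearMap).finrank_le
    rw [hdis, finrank_bot, LinearEquiv.finrank_map_eq e W] at h1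
    omega
  obtain ⟨a, ha⟩ := hcyc.exists_generator
  have haut : Nat.card (MulAut A) ≤ Nat.card A :=
    Nat.card_le_card_of_injective (fun φ : MulAut A => φ a) fun φ ψ h1 => MulEquiv.ext fun x => by
      obtain ⟨n, rfl⟩ := ha x
      have h1' : φ a = ψ a := h1
      rw [map_zpow, map_zpow, h1']
  have hk : (MulAut.conjNormal : H →* MulAut A).ker = Subgroup.centralizer (A : Set H) := by
    ext g
    rw [MonoidHom.mem_ker, Subgroup.mem_centralizer_iff]
    constructor
    · intro hg x hx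
      have := congrArg Subtype.val (DFunLike.congr_fun hg ⟨x, hx⟩)
      rw [MulAut.conjNormal_apply] at this
      exact (mul_inv_eq_iff_eq_mul.1 this).symm
    · intro hg
      exact MulEquiv.ext fun x => Subtype.ext (by
        rw [MulAut.conjNormal_apply, ← hg x x.2, mul_inv_cancel_right]; rfl)
  have hle : Nat.card H ≤ Nat.card A * Nat.card A := by
    rw [Subgroup.card_eq_card_quotient_mul_card_subgroup (MulAut.conjNormal : H →* MulAut A).ker,
      Nat.card_congr (QuotientGroup.quotientKerEquivRange _).toEquiv, hk, hC]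
    exact Nat.mul_le_mul ((Subgroup.card_le_card_group _).trans haut) le_rfl
  rw [card_eq hreg hw0] at hle
  set k := Module.finrank (ZMod p) W
  have hk1 : 1 ≤ k := Submodule.one_le_finrank_iff.2 hW0
  have hq : 2 ≤ p ^ k := (Fact.out : p.Prime).two_le.trans (Nat.le_self_pow (by omega) p)
  have hA : Nat.card A ≤ p ^ k - 1 := Nat.le_of_dvd (by omega) hdvd
  have hsq : p ^ k * p ^ k ≤ p ^ Module.finrank (ZMod p) V := by
    rw [← pow_add]
    exact Nat.pow_le_pow_right (Fact.out : p.Prime).pos (by omega)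
  have := Nat.mul_le_mul hA hA
  obtain ⟨r, hr⟩ : ∃ r, p ^ k = r + 1 := ⟨p ^ k - 1, by omega⟩
  rw [hr] at this hsq hq
  simp only [Nat.add_sub_cancel, Nat.mul_add, Nat.add_mul, Nat.one_mul, Nat.mul_one] at this hsq
  omega

end Cfsg.Lib.PermGroups.LinearRegular
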