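import Mathlib

set_option autoImplicit false

namespace Cfsg.Lib.PermGroups.PrimeDegree

variable {α : Type*} [Fintype α] [DecidableEq α] {p : ℕ} [Fact p.Prime]

theorem exists_coord (hα : Fintype.card α = p) (G : Subgroup (Equiv.Perm α)) [MulAction.IsPretransitive G α] :
    ∃ e : ZMod p ≃ α, ∃ τ ∈ G, ∀ i, τ (e i) = e (i + 1) := by
  have hp := (Fact.out : p.Prime)
  have : Nonempty α := Fintype.card_pos_iff.1 (hα ▸ hp.pos)
  obtain ⟨a⟩ := this
  have hdvd : p ∣ Nat.card G := by
    have h := (MulAction.stabilizer G a).index_dvd_card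
    rwa [MulAction.index_stabilizer_of_transitive, Nat.card_eq_fintype_card (α := α), hα] at h
  obtain ⟨⟨σ, hσ⟩, ho⟩ := exists_prime_orderOf_dvd_card' p hdvd
  replace ho : orderOf σ = p := (Subgroup.orderOf_coe _).trans ho
  obtain ⟨b, hb⟩ : ∃ b, σ b ≠ b := by
    by_contra! h
    rw [show σ = 1 from Equiv.ext h, orderOf_one] at ho
    exact hp.one_lt.ne ho
  have hper : Function.minimalPeriod σ b = p := by
    have hd : Function.minimalPeriod σ b ∣ p := Function.IsPeriodicPt.minimalPeriod_dvd (by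
      show (⇑σ)^[p] b = b
      rw [← Equiv.Perm.coe_pow, ← ho, pow_orderOf_eq_one]; rfl)
    rcases hp.eq_one_or_self_of_dvd _ hd with h | h
    · exact absurd (Function.minimalPeriod_eq_one_iff_isFixedPt.1 h) hb
    · exact h
  let f : ZMod p → α := fun i => (⇑σ)^[i.val] b
  have hinj : Function.Injective f := fun i j h => ZMod.val_injective p
    ((Function.iterate_eq_iterate_iff_of_lt_minimalPeriod (by rw [hper]; exact ZMod.val_lt i)
      (by rw [hper]; exact ZMod.val_lt j)).1 h)
  have hbij : Function.Bijective f := (Fintype.bijective_iff_injective_and_card f).2 ⟨hinj, by rw [ZMod.card, hα]⟩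
  refine ⟨Equiv.ofBijective f hbij, σ, hσ, fun i => ?_⟩
  show σ ((⇑σ)^[i.val] b) = (⇑σ)^[(i + 1).val] b
  rw [← Function.iterate_succ_apply' σ, ZMod.val_add, ← Function.iterate_mod_minimalPeriod_eq, hper, ZMod.val_one,
    Nat.succ_eq_add_one]

omit [Fintype α] [DecidableEq α] in
/-- A permutation group which is affine in some coordinate is solvable. -/
theorem solvable_of_affine (G : Subgroup (Equiv.Perm α)) (e : ZMod p ≃ α)
    (h : ∀ g ∈ G, ∀ i, e.symm (g (e i)) = e.symm (g (e 0)) + (e.symm (g (e 1)) - e.symm (g (e 0))) * i) :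
    Group.IsSolvable G := by
  let c : G → ZMod p := fun g => e.symm (g.1 (e 1)) - e.symm (g.1 (e 0))
  let b : G → ZMod p := fun g => e.symm (g.1 (e 0))
  have hg : ∀ (g : G) (i : ZMod p), g.1 (e i) = e (b g + c g * i) := fun g i => by
    rw [← h g g.2 i, Equiv.apply_symm_apply]
  have hc1 : c 1 = 1 := by simp [c]
  have hcm : ∀ g k, c (g * k) = c g * c k := fun g k => by
    show e.symm (g.1 (k.1 (e 1))) - e.symm (g.1 (k.1 (e 0))) = _
    rw [hg k, hg k, hg g, hg g, Equiv.symm_apply_apply, Equiv.symm_apply_apply]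
    ring
  let ψ : G →* ZMod p := { toFun := c, map_one' := hc1, map_mul' := hcm }
  have : Group.IsSolvable (ZMod p)ˣ := Group.isSolvable_of_comm mul_comm
  have : Group.IsSolvable ψ.toHomUnits.ker := Group.isSolvable_of_comm fun x y => by
    refine Subtype.ext (Subtype.ext (Equiv.ext fun z => ?_))
    obtain ⟨i, rfl⟩ := e.surjective z
    have hx : c x.1 = 1 := congrArg Units.val x.2
    have hy : c y.1 = 1 := congrArg Units.val y.2
    show x.1.1 (y.1.1 (e i)) = y.1.1 (x.1.1 (e i))
    simp only [hg, hx, hy, one_mul]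
    rw [add_left_comm]
  exact Group.isSolvable_of_ker_le_range ψ.toHomUnits.ker.subtype ψ.toHomUnits (by simp)

/-- A permutation with all low moments vanishing is affine. -/
theorem affine_of_moments (u : ZMod p → ZMod p) {m : ℕ} (hm1 : 1 ≤ m) (hm2 : 2 * m + 2 ≤ p)
    (hz : ∀ j ≤ m, ∀ i, i + m + 2 ≤ p → ∑ x, u x ^ j * x ^ i = 0) (x : ZMod p) :
    u x = u 0 + (u 1 - u 0) * x := by
  classical
  have hp := (Fact.out : p.Prime)
  set P := Lagrange.interpolate (Finset.univ : Finset (ZMod p)) id u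
  have hPe : ∀ y, P.eval y = u y := fun y =>
    Lagrange.eval_interpolate_at_node _ Function.injective_id.injOn (Finset.mem_univ y)
  have hPdeg : P.natDegree < p := by
    by_cases hP0 : P = 0
    · rw [hP0, Polynomial.natDegree_zero]; exact hp.pos
    · rw [Polynomial.natDegree_lt_iff_degree_lt hP0]
      have := Lagrange.degree_interpolate_lt (s := (Finset.univ : Finset (ZMod p))) (v := id) u Function.injective_id.injOn
      rwa [Finset.card_univ, ZMod.card] at this
  by_cases he : P.natDegree ≤ 1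
  · obtain ⟨a, b, hab⟩ := Polynomial.exists_eq_X_add_C_of_natDegree_le_one he
    simp only [← hPe, hab]
    simp only [Polynomial.eval_add, Polynomial.eval_mul, Polynomial.eval_C, Polynomial.eval_X]
    ring
  exfalso
  set n := P.natDegree
  obtain ⟨j, hj, hjlo, hjhi⟩ : ∃ j, j ≤ m ∧ m + 1 ≤ j * n ∧ j * n + 1 ≤ p := by
    by_cases hbig : m + 1 ≤ n
    · exact ⟨1, hm1, by omega, by omega⟩
    · refine ⟨m / n + 1, ?_, ?_, ?_⟩
      · have : m / n ≤ m / 2 := Nat.div_le_div_left (by omega) (by omega)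
        omega
      · have h1 := Nat.div_add_mod m n
        have h2 := Nat.mod_lt m (y := n) (by omega)
        rw [Nat.add_mul, Nat.one_mul, Nat.mul_comm]
        omega
      · have h1 := Nat.div_mul_le_self m n
        rw [Nat.add_mul, Nat.one_mul]
        omega
  set i := p - 1 - j * n
  set Q := P ^ j * Polynomial.X ^ i
  have hP0 : P ≠ 0 := fun h => he (by simp [n, h])
  have hQ : Q.natDegree = p - 1 := by
    rw [Polynomial.natDegree_mul (pow_ne_zero _ hP0) (pow_ne_zero _ Polynomial.X_ne_zero), Polynomial.natDegree_pow,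
      Polynomial.natDegree_X_pow]
    show j * n + i = p - 1; omega
  have hQ0 : Q ≠ 0 := mul_ne_zero (pow_ne_zero _ hP0) (pow_ne_zero _ Polynomial.X_ne_zero)
  have hs : ∑ x, Q.eval x = - Q.leadingCoeff := by
    simp only [Polynomial.eval_eq_sum_range, hQ]
    rw [Finset.sum_comm, Finset.sum_range_succ, Finset.sum_eq_zero (fun k hk => by
      rw [← Finset.mul_sum, FiniteField.sum_pow_lt_card_sub_one (ZMod p) k (by rw [ZMod.card]; exact Finset.mem_range.1 hk), mul_zero]),
      zero_add, ← Finset.mul_sum]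
    have : ∑ y : ZMod p, y ^ (p - 1) = -1 := by
      rw [← Finset.add_sum_erase _ _ (Finset.mem_univ 0), zero_pow (by omega), zero_add,
        Finset.sum_congr rfl (fun y hy => ZMod.pow_card_sub_one_eq_one (Finset.ne_of_mem_erase hy))]
      rw [Finset.sum_const, Finset.card_erase_of_mem (Finset.mem_univ _), Finset.card_univ, ZMod.card, nsmul_one,
        Nat.cast_sub hp.one_le, ZMod.natCast_self, Nat.cast_one, zero_sub]
    rw [this, Polynomial.leadingCoeff, hQ]
    ring
  have := hz j hj i (by omega)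
  simp only [← hPe] at this
  have h2 : ∑ x, Q.eval x = 0 := by simpa [Q] using this
  rw [hs, neg_eq_zero, Polynomial.leadingCoeff_eq_zero] at h2
  exact hQ0 h2

omit [Fintype α] [DecidableEq α] in
theorem pow_apply_coord {τ : Equiv.Perm α} {e : ZMod p ≃ α} (hτe : ∀ i, τ (e i) = e (i + 1)) (k : ℕ)
    (i : ZMod p) : (τ ^ k) (e i) = e (i + k) := by
  induction k with
  | zero => simp
  | succ k ih => rw [pow_succ', Equiv.Perm.mul_apply, ih, hτe, Nat.cast_succ, add_assoc]

omit [Fintype α] [DecidableEq α] in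
theorem orderOf_coord {τ : Equiv.Perm α} {e : ZMod p ≃ α} (hτe : ∀ i, τ (e i) = e (i + 1)) : orderOf τ = p := by
  refine orderOf_eq_prime (Equiv.ext fun z => ?_) fun h => ?_
  · obtain ⟨i, rfl⟩ := e.surjective z
    rw [pow_apply_coord hτe, ZMod.natCast_self, add_zero]; rfl
  · have h1 := hτe 0
    rw [h, Equiv.Perm.one_apply, zero_add] at h1
    exact zero_ne_one (e.injective h1)

omit [Fintype α] [DecidableEq α] in
theorem affine_of_conj {τ g : Equiv.Perm α} {e : ZMod p ≃ α} (hτe : ∀ i, τ (e i) = e (i + 1))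
    (hg : g * τ * g⁻¹ ∈ Subgroup.zpowers τ) :
    ∃ c k : ZMod p, ∀ i, e.symm (g (e i)) = c + k * i := by
  have hfin : IsOfFinOrder τ := orderOf_pos_iff.1 (by rw [orderOf_coord hτe]; exact (Fact.out : p.Prime).pos)
  obtain ⟨k, hk⟩ := (Submonoid.mem_powers_iff _ _).1 (hfin.mem_powers_iff_mem_zpowers.2 hg)
  refine ⟨e.symm (g (e 0)), k, fun i => ?_⟩
  have h2 : ∀ n : ℕ, e.symm (g (e (n : ZMod p))) = e.symm (g (e 0)) + (k : ZMod p) * n := fun n => by
    induction n with
    | zero => simp
    | succ n ih =>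
      have h3 : g * τ = τ ^ k * g := by rw [hk]; group
      have h4 := congrFun (congrArg DFunLike.coe h3) (e (n : ZMod p))
      rw [Equiv.Perm.mul_apply, Equiv.Perm.mul_apply, hτe, ← Equiv.apply_symm_apply e (g (e (n : ZMod p))),
        pow_apply_coord hτe, ih] at h4
      rw [Nat.cast_succ, h4, Equiv.symm_apply_apply]
      ring
  simpa using h2 i.val

/-- The Sylow `p`-subgroup generated by the full cycle. -/
theorem sylow_coord (hα : Fintype.card α = p) (G : Subgroup (Equiv.Perm α)) {τ : Equiv.Perm α} (hτ : τ ∈ G)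
    {e : ZMod p ≃ α} (hτe : ∀ i, τ (e i) = e (i + 1)) :
    ∃ P : Sylow p G, (P : Subgroup G) = Subgroup.zpowers ⟨τ, hτ⟩ := by
  have hp := (Fact.out : p.Prime)
  set t : G := ⟨τ, hτ⟩
  have hcard : Nat.card (Subgroup.zpowers t) = p := by
    rw [Nat.card_zpowers, ← Subgroup.orderOf_coe]; exact orderOf_coord hτe
  obtain ⟨P, hP⟩ := (IsPGroup.of_card (p := p) (n := 1) (by rw [hcard, pow_one])).exists_le_sylow
  refine ⟨P, (Subgroup.eq_of_le_of_card_ge hP ?_).symm⟩
  obtain ⟨n, hn⟩ := IsPGroup.iff_card.1 P.isPGroup'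
  rw [hcard]
  by_contra h
  have h2 : 2 ≤ n := by
    by_contra h2
    exact h (hn.trans_le ((Nat.pow_le_pow_right hp.pos (by omega : n ≤ 1)).trans (pow_one p).le))
  have hd : p * p ∣ p.factorial := by
    rw [← sq]
    refine (pow_dvd_pow p h2).trans ?_
    rw [← hn, show p.factorial = Nat.card (Equiv.Perm α) from by rw [Nat.card_perm, Nat.card_eq_fintype_card, hα]]
    exact (Subgroup.card_subgroup_dvd_card _).trans (Subgroup.card_subgroup_dvd_card G)
  rw [← Nat.mul_factorial_pred hp.ne_zero] at hd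
  have := (hp.dvd_factorial).1 (Nat.dvd_of_mul_dvd_mul_left hp.pos hd)
  have := hp.one_lt
  omega

end Cfsg.Lib.PermGroups.PrimeDegree
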