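import Cfsg.Agent.PermGroups.Constituents

set_option autoImplicit false

/-!
The permutation module over ℂ and its commutant.
-/

namespace Cfsg.Lib.PermGroups.PermModule

open scoped ComplexConjugate
open Cfsg.Lib.Chars Cfsg.Lib.PermGroups Module

universe u v

variable {G : Type u} [Group G] [Fintype G] {Ω : Type v} [Fintype Ω] [MulAction G Ω]

/-- The permutation character as used in the statements. -/
noncomputable abbrev pc (G : Type u) [Group G] (Ω : Type v) [MulAction G Ω] : G → ℂ :=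
  fun g => (Nat.card (MulAction.fixedBy Ω g) : ℂ)

omit [Fintype G] in
theorem character_permRep : (Cfsg.permRep ℂ G Ω).character = pc G Ω := by
  classical
  funext g
  rw [Representation.character, LinearMap.trace_eq_matrix_trace ℂ (Pi.basisFun ℂ Ω)]
  simp only [Matrix.trace, Matrix.diag_apply, LinearMap.toMatrix_apply, Pi.basisFun_apply,
    Pi.basisFun_repr]
  rw [Finset.sum_congr rfl (g := fun x => if g⁻¹ • x = x then (1 : ℂ) else 0) (fun x _ => by
    show (Pi.single x 1 : Ω → ℂ) (g⁻¹ • x) = _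
    simp [Pi.single_apply, eq_comm]), Finset.sum_boole]
  show _ = (Nat.card _ : ℂ)
  rw [Nat.card_eq_fintype_card, ← Set.toFinset_card]
  congr 2
  ext x
  simp only [Set.mem_toFinset, MulAction.mem_fixedBy, Finset.mem_filter, Finset.mem_univ, true_and]
  rw [inv_smul_eq_iff, eq_comm]

theorem mult_eq (χ : Cfsg.IrrCharacter G) :
    Cfsg.classInner (pc G Ω) χ = (Constituents.mult (Cfsg.permRep ℂ G Ω) χ : ℂ) := by
  rw [← character_permRep, Constituents.mult_spec]

theorem multFree_iff :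
    (∀ χ : G → ℂ, Cfsg.IsIrrCharacter G χ → Cfsg.classInner (pc G Ω) χ = 0 ∨ Cfsg.classInner (pc G Ω) χ = 1) ↔
      ∀ χ, Constituents.mult (Cfsg.permRep ℂ G Ω) χ ≤ 1 := by
  constructor
  · intro h χ
    rcases h χ χ.2 with e | e <;> rw [mult_eq] at e
    · have e' : Constituents.mult (Cfsg.permRep ℂ G Ω) χ = 0 := by exact_mod_cast e
      omega
    · have e' : Constituents.mult (Cfsg.permRep ℂ G Ω) χ = 1 := by exact_mod_cast e
      omega
  · intro h χ hχ
    rw [mult_eq ⟨χ, hχ⟩]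
    have := h ⟨χ, hχ⟩
    interval_cases h' : Constituents.mult (Cfsg.permRep ℂ G Ω) ⟨χ, hχ⟩ <;> simp

/-- The matrix entries of an operator on the permutation module. -/
noncomputable def entry [DecidableEq Ω] (S : (Ω → ℂ) →ₗ[ℂ] (Ω → ℂ)) (b a : Ω) : ℂ :=
  S (Pi.single a 1) b

omit [Fintype G] [MulAction G Ω] in
theorem ext_entry [DecidableEq Ω] {S T : (Ω → ℂ) →ₗ[ℂ] (Ω → ℂ)} (h : ∀ b a, entry S b a = entry T b a) : S = T :=
  (Pi.basisFun ℂ Ω).ext fun a => funext fun b => by
    rw [Pi.basisFun_apply]; exact h b a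

omit [Fintype G] [MulAction G Ω] in
theorem apply_eq_sum [DecidableEq Ω] (S : (Ω → ℂ) →ₗ[ℂ] (Ω → ℂ)) (f : Ω → ℂ) (b : Ω) :
    S f b = ∑ a, entry S b a * f a := by
  conv_lhs => rw [pi_eq_sum_univ' f]
  simp [map_sum, entry, mul_comm]

omit [Fintype G] [MulAction G Ω] in
theorem entry_comp [DecidableEq Ω] (S T : (Ω → ℂ) →ₗ[ℂ] (Ω → ℂ)) (b a : Ω) :
    entry (S ∘ₗ T) b a = ∑ c, entry S b c * entry T c a :=
  apply_eq_sum S _ b

omit [Fintype G] [Fintype Ω] in
theorem permRep_single [DecidableEq Ω] (g : G) (a : Ω) :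
    Cfsg.permRep ℂ G Ω g (Pi.single a 1) = Pi.single (g • a) 1 := by
  funext z
  show (Pi.single a 1 : Ω → ℂ) (g⁻¹ • z) = _
  simp only [Pi.single_apply, inv_smul_eq_iff]

omit [Fintype G] [Fintype Ω] in
theorem entry_smul [DecidableEq Ω] {S : (Ω → ℂ) →ₗ[ℂ] (Ω → ℂ)}
    (hS : ∀ g v, S (Cfsg.permRep ℂ G Ω g v) = Cfsg.permRep ℂ G Ω g (S v)) (g : G) (b a : Ω) :
    entry S (g • b) (g • a) = entry S b a := by
  rw [entry, ← permRep_single, hS]
  show S _ (g⁻¹ • g • b) = _
  rw [inv_smul_smul]; rfl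

theorem entry_op [DecidableEq Ω] (f : G → ℂ) (b a : Ω) :
    entry (Constituents.op (Cfsg.permRep ℂ G Ω) f) b a = ∑ g, if g • a = b then f g else 0 := by
  simp only [entry, Constituents.op, LinearMap.sum_apply, LinearMap.smul_apply, Finset.sum_apply,
    Pi.smul_apply, smul_eq_mul, permRep_single, Pi.single_apply, mul_ite, mul_one, mul_zero]
  exact Finset.sum_congr rfl fun g _ => if_congr eq_comm rfl rfl

open scoped Classical in
/-- The operator of the orbital of `(a, b)`: it sums a function over the related points. -/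
noncomputable def orbital (G : Type u) [Group G] [MulAction G Ω] (a b : Ω) :
    (Ω → ℂ) →ₗ[ℂ] (Ω → ℂ) where
  toFun f c := ∑ d ∈ Finset.univ.filter (fun d => ∃ g : G, g • a = c ∧ g • b = d), f d
  map_add' f f' := funext fun c => Finset.sum_add_distrib
  map_smul' k f := funext fun c => (Finset.mul_sum _ _ _).symm

omit [Fintype G] in
theorem orbital_comm (a b : Ω) (g : G) (v : Ω → ℂ) :
    orbital G a b (Cfsg.permRep ℂ G Ω g v) = Cfsg.permRep ℂ G Ω g (orbital G a b v) := by
  classical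
  funext c
  show ∑ d ∈ _, v (g⁻¹ • d) = ∑ d ∈ _, v d
  refine Finset.sum_equiv (MulAction.toPerm g⁻¹) (fun d => ?_) (fun d _ => rfl)
  simp only [Finset.mem_filter, Finset.mem_univ, true_and, MulAction.toPerm_apply]
  constructor
  · rintro ⟨k, rfl, rfl⟩
    exact ⟨g⁻¹ * k, mul_smul _ _ _, mul_smul _ _ _⟩
  · rintro ⟨k, h1, h2⟩
    refine ⟨g * k, ?_, ?_⟩
    · rw [mul_smul, h1, smul_inv_smul]
    · rw [mul_smul, h2, smul_inv_smul]

open scoped Classical in
theorem entry_orbital [DecidableEq Ω] (a b c d : Ω) :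
    entry (orbital G a b) c d = if ∃ g : G, g • a = c ∧ g • b = d then 1 else 0 := by
  simp only [entry, orbital, LinearMap.coe_mk, AddHom.coe_mk]
  rw [Finset.sum_pi_single']
  simp

end Cfsg.Lib.PermGroups.PermModule
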