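import Mathlib
import Cfsg.Prelude.Def_Perm
import Cfsg.Agent.Frobenius.Kernel
import Cfsg.Agent.RankOne.Zassenhaus

/-! Finite sharply doubly transitive groups. -/

set_option autoImplicit false
set_option linter.unusedSectionVars false

open MulAction
open scoped Pointwise

namespace Cfsg.Lib.PermGroups

variable {α : Type*} [Fintype α] [DecidableEq α] {G : Subgroup (Equiv.Perm α)}

theorem sharp_two_eq_one (hsharp : ∀ x : Fin 2 ↪ α, stabilizer G x = ⊥) {g : G} {a b : α}
    (hab : a ≠ b) (ha : g • a = a) (hb : g • b = b) : g = 1 := by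
  have h : g ∈ stabilizer G (⟨![a, b], fun i j h => by fin_cases i <;> fin_cases j <;> simp_all [hab, hab.symm]⟩ : Fin 2 ↪ α) := by
    refine Function.Embedding.ext fun i => ?_
    fin_cases i
    · exact ha
    · exact hb
  rwa [hsharp, Subgroup.mem_bot] at h

/-- The fixed-point-free elements and `1` form a regular normal elementary abelian subgroup. -/
theorem sharp_two_kernel (h2t : IsMultiplyPretransitive G α 2) (hsharp : ∀ x : Fin 2 ↪ α, stabilizer G x = ⊥)
    (hn : 2 ≤ Fintype.card α) :
    ∃ (N : Subgroup G) (p j : ℕ), p.Prime ∧ 1 ≤ j ∧ Fintype.card α = p ^ j ∧ Nat.card N = p ^ j ∧ N.Normal ∧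
      Nat.card G = Fintype.card α * (Fintype.card α - 1) ∧
      (∀ g : G, g ∈ N ↔ g = 1 ∨ ∀ a : α, g • a ≠ a) ∧ IsPretransitive N α ∧ (∀ a : α, stabilizer N a = ⊥) ∧
      (∀ x ∈ N, ∀ y ∈ N, x * y = y * x) ∧ ∀ x ∈ N, x ^ p = 1 := by
  classical
  obtain ⟨a, b, hab⟩ := Fintype.exists_pair_of_one_lt_card (show 1 < Fintype.card α by omega)
  have htr : IsPretransitive G α := isPretransitive_of_is_two_pretransitive
  -- the point stabiliser is regular on the other points
  have hcA : Nat.card (stabilizer G a) = Fintype.card α - 1 := by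
    have hbij : Function.Bijective (fun g : stabilizer G a => (⟨(g : G) • b, fun h => hab ((smul_left_cancel (g : G)) (g.2.trans h.symm))⟩ : {x : α // x ≠ a})) := by
      refine ⟨fun g g' h => Subtype.ext ?_, fun x => ?_⟩
      · have h' : (g : G) • b = (g' : G) • b := congrArg Subtype.val h
        refine (inv_mul_eq_one.1 (sharp_two_eq_one hsharp hab (g := (g' : G)⁻¹ * g) ?_ ?_)).symm
        · rw [mul_smul, g.2, inv_smul_eq_iff, g'.2]
        · rw [mul_smul, h', inv_smul_smul]
      · obtain ⟨g, h1, h2⟩ := is_two_pretransitive_iff.1 h2t hab (Ne.symm x.2)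
        exact ⟨⟨g, h1⟩, Subtype.ext h2⟩
    rw [Nat.card_congr (Equiv.ofBijective _ hbij), Nat.card_eq_fintype_card, Fintype.card_subtype_compl, Fintype.card_subtype_eq]
  have hcG : Nat.card G = Fintype.card α * (Fintype.card α - 1) := by
    rw [← (stabilizer G a).card_mul_index, index_stabilizer_of_transitive, Nat.card_eq_fintype_card (α := α), hcA, mul_comm]
  obtain ⟨N, hN, hNn, hcN⟩ : ∃ N : Subgroup G, (∀ g : G, g ∈ N ↔ g = 1 ∨ ∀ c : α, g • c ≠ c) ∧ N.Normal ∧ Nat.card N = Fintype.card α := by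
    by_cases h2 : Fintype.card α = 2
    · refine ⟨⊤, fun g => ⟨fun _ => ?_, fun _ => trivial⟩, inferInstance, by rw [Subgroup.card_top, hcG, h2]⟩
      by_contra h
      push Not at h
      obtain ⟨hg, c, hc⟩ := h
      obtain ⟨d, hd⟩ : ∃ d : α, d ≠ c := Fintype.exists_ne_of_one_lt_card (α := α) (by omega) c
      refine hg (sharp_two_eq_one hsharp (Ne.symm hd) hc ?_)
      by_contra hgd
      have h3 : ({c, d, g • d} : Finset α).card = 3 := by
        rw [Finset.card_insert_of_notMem, Finset.card_pair (Ne.symm hgd)]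
        simp only [Finset.mem_insert, Finset.mem_singleton, not_or]
        exact ⟨Ne.symm hd, fun h => hd (smul_left_cancel g (h.symm.trans hc.symm))⟩
      have := Finset.card_le_univ ({c, d, g • d} : Finset α)
      omega
    have hF : Cfsg.IsFrobeniusComplement (stabilizer G a) := by
      refine ⟨fun h => ?_, fun h => ?_, fun g hg => ?_⟩
      · rw [h, Subgroup.card_bot] at hcA; omega
      · rw [h, Subgroup.card_top, hcG] at hcA
        have : 2 * (Fintype.card α - 1) ≤ Fintype.card α * (Fintype.card α - 1) := Nat.mul_le_mul_right _ hn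
        omega
      · rw [Subgroup.eq_bot_iff_forall]
        intro u hu
        obtain ⟨h1, h2⟩ := Subgroup.mem_inf.1 hu
        rw [Subgroup.mem_pointwise_smul_iff_inv_smul_mem] at h2
        have h2' : ((g⁻¹ : G) * u * g) • a = a := by simpa using h2
        rw [mul_smul, mul_smul, inv_smul_eq_iff] at h2'
        exact sharp_two_eq_one hsharp (Ne.symm (fun h => hg h)) h1 h2'
    obtain ⟨N, hN, hNn, hc⟩ := Cfsg.Lib.Frobenius.exists_kernel hF
    refine ⟨N, fun g => ?_, hNn, ?_⟩
    · rw [← SetLike.mem_coe, hN]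
      refine or_congr Iff.rfl ⟨fun h c hgc => ?_, fun h k hk => ?_⟩
      · obtain ⟨k, rfl⟩ := exists_smul_eq G a c
        refine h k ?_
        rw [Subgroup.mem_pointwise_smul_iff_inv_smul_mem]
        suffices h5 : ((k⁻¹ : G) * g * k) • a = a by simpa using h5
        rw [mul_smul, mul_smul, hgc, inv_smul_smul]
      · rw [Subgroup.mem_pointwise_smul_iff_inv_smul_mem] at hk
        have h5 : ((k⁻¹ : G) * g * k) • a = a := by simpa using hk
        rw [mul_smul, mul_smul, inv_smul_eq_iff] at h5
        exact h _ h5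
    · rw [← hc.index_eq_card, index_stabilizer_of_transitive, Nat.card_eq_fintype_card]
  have hfree : ∀ c : α, stabilizer N c = ⊥ := fun c => (Subgroup.eq_bot_iff_forall _).2 fun x hx =>
    Subtype.ext (((hN x).1 x.2).resolve_right fun h => h c hx)
  have hNt : IsPretransitive N α := by
    have hinj : Function.Injective (fun x : N => x • a) := fun x y h => by
      have h' : y⁻¹ * x ∈ stabilizer N a := by
        rw [mem_stabilizer_iff, mul_smul, show x • a = y • a from h, inv_smul_smul]
      rw [hfree, Subgroup.mem_bot] at h'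
      exact (inv_mul_eq_one.1 h').symm
    have hb := hinj.bijective_of_nat_card_le (by rw [hcN, Nat.card_eq_fintype_card])
    refine ⟨fun x y => ?_⟩
    obtain ⟨n, rfl⟩ := hb.2 x
    obtain ⟨m, rfl⟩ := hb.2 y
    exact ⟨m * n⁻¹, by simp [mul_smul]⟩
  have hab' := Cfsg.Lib.RankOne.regular_normal_abelian h2t hNn hfree
  obtain ⟨p, hp, hdvd⟩ := Nat.exists_prime_and_dvd (show Nat.card N ≠ 1 by omega)
  have : Fact p.Prime := ⟨hp⟩
  obtain ⟨x, hx⟩ := exists_prime_orderOf_dvd_card' p hdvd
  have hexp : ∀ y ∈ N, y ^ p = 1 := fun y hy => by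
    by_cases hy1 : y = 1
    · rw [hy1, one_pow]
    have hx1 : (x : G) ≠ 1 := fun h => hp.ne_one (by rw [← hx, show x = 1 from Subtype.ext h, orderOf_one])
    have ne : ∀ z ∈ N, z ≠ 1 → a ≠ z • a := fun z hz hz1 h => ((hN z).1 hz).resolve_left hz1 a h.symm
    obtain ⟨f, f1, f2⟩ := is_two_pretransitive_iff.1 h2t (ne x x.2 hx1) (ne y hy hy1)
    have e : f * x * f⁻¹ = y := by
      have h1 : (y⁻¹ * (f * x * f⁻¹)) • a = a := by
        conv_lhs => rw [← f1]
        rw [mul_smul, mul_smul, mul_smul, inv_smul_smul, f2, inv_smul_smul]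
      exact (inv_mul_eq_one.1 (((hN _).1 (N.mul_mem (N.inv_mem hy) (hNn.conj_mem x x.2 f))).resolve_right fun h => h a h1)).symm
    rw [← e, conj_pow, ← SubmonoidClass.coe_pow, ← hx, pow_orderOf_eq_one]
    simp
  obtain ⟨j, hj⟩ := IsPGroup.iff_card.1 (show IsPGroup p N from fun y => ⟨1, Subtype.ext (by rw [pow_one]; exact hexp y y.2)⟩)
  refine ⟨N, p, j, hp, ?_, hcN ▸ hj, hj, hNn, hcG, hN, hNt, hfree, hab', hexp⟩
  by_contra h
  rw [show j = 0 by omega, pow_zero] at hj
  omega

/-- The points of a sharply doubly transitive group form a near-field whose affine group it is. -/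
theorem sharp_two_nearField (h2t : IsMultiplyPretransitive G α 2) (hsharp : ∀ x : Fin 2 ↪ α, stabilizer G x = ⊥)
    (hn : 2 ≤ Fintype.card α) :
    ∃ _ : Cfsg.NearField α, ∀ σ : Equiv.Perm α, σ ∈ G ↔ ∃ a b : α, a ≠ 0 ∧ ∀ x : α, σ x = x * a + b := by
  classical
  obtain ⟨N, p, j, -, -, -, -, hNn, -, -, hNt, hfree, habN, -⟩ := sharp_two_kernel h2t hsharp hn
  obtain ⟨o, e, hoe⟩ := Fintype.exists_pair_of_one_lt_card (show 1 < Fintype.card α by omega)
  choose τ hτ using fun x => exists_smul_eq N o x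
  choose μ hμ1 hμ2 using fun (y : α) (hy : y ≠ o) => is_two_pretransitive_iff.1 h2t hoe (Ne.symm hy)
  have hτu : ∀ (m : N) x, m • o = x → m = τ x := fun m x h => by
    have h' : (τ x)⁻¹ * m ∈ stabilizer N o := by
      rw [mem_stabilizer_iff, mul_smul, h, inv_smul_eq_iff, hτ]
    rw [hfree, Subgroup.mem_bot] at h'
    exact (inv_mul_eq_one.1 h').symm
  have hμu : ∀ (g : G) y hy, g • o = o → g • e = y → g = μ y hy := fun g y hy h1 h2 =>
    (inv_mul_eq_one.1 (sharp_two_eq_one hsharp hoe (g := (μ y hy)⁻¹ * g)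
      (by rw [mul_smul, h1, inv_smul_eq_iff, hμ1]) (by rw [mul_smul, h2, inv_smul_eq_iff, hμ2]))).symm
  let add : α → α → α := fun x y => τ y • x
  let mul : α → α → α := fun x y => if hy : y = o then o else μ y hy • x
  have hτadd : ∀ x y, τ (add x y) = τ y * τ x := fun x y => (hτu _ _ (by rw [mul_smul, hτ])).symm
  have hτo : τ o = 1 := (hτu 1 o (one_smul _ _)).symm
  have add_assoc' : ∀ x y z, add (add x y) z = add x (add y z) := fun x y z => by
    show τ z • τ y • x = τ (add y z) • x
    rw [hτadd, mul_smul]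
  have add_comm' : ∀ x y, add x y = add y x := fun x y => by
    show τ y • x = τ x • y
    conv_lhs => rw [← hτ x]
    conv_rhs => rw [← hτ y]
    rw [← mul_smul, ← mul_smul]
    exact congrArg (· • o) (Subtype.ext (habN _ (τ y).2 _ (τ x).2))
  have hdistrib : ∀ (g : G), g • o = o → ∀ x y, g • (add x y) = add (g • x) (g • y) := fun g hg x y => by
    have hconj : (⟨g * (τ y : G) * g⁻¹, hNn.conj_mem _ (τ y).2 g⟩ : N) = τ (g • y) := hτu _ _ (by
      show (g * (τ y : G) * g⁻¹) • o = g • y
      rw [mul_smul, mul_smul, inv_smul_eq_iff.2 hg.symm]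
      exact congrArg (g • ·) (hτ y))
    show g • ((τ y : G) • x) = τ (g • y) • (g • x)
    rw [← hconj]
    show _ = (g * (τ y : G) * g⁻¹) • g • x
    rw [mul_smul, mul_smul, inv_smul_smul]
  have mul_o : ∀ x, mul x o = o := fun x => by simp [mul]
  have o_mul : ∀ y, mul o y = o := fun y => by
    by_cases hy : y = o
    · simp [mul, hy]
    · simp [mul, hy, hμ1]
  have mul_ne : ∀ x y (hy : y ≠ o), x ≠ o → μ y hy • x ≠ o := fun x y hy hx h => hx (smul_left_cancel _ (h.trans (hμ1 y hy).symm))
  have μμ : ∀ y z (hy : y ≠ o) (hz : z ≠ o), μ z hz * μ y hy = μ (μ z hz • y) (mul_ne y z hz hy) := fun y z hy hz =>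
    hμu _ _ _ (by rw [mul_smul, hμ1, hμ1]) (by rw [mul_smul, hμ2])
  have μe : μ e hoe.symm = 1 := (hμu 1 e _ (one_smul _ _) (one_smul _ _)).symm
  let : Zero α := ⟨o⟩
  let : Add α := ⟨add⟩
  let : Neg α := ⟨fun x => (τ x)⁻¹ • o⟩
  let nf : Cfsg.NearField α :=
    { add := add
      add_assoc := add_assoc'
      zero := o
      zero_add := fun x => hτ x
      add_zero := fun x => by show τ o • x = x; rw [hτo, one_smul]
      neg := fun x => (τ x)⁻¹ • o
      neg_add_cancel := fun x => by show τ x • (τ x)⁻¹ • o = o; rw [smul_inv_smul]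
      nsmul := nsmulRec
      zsmul := zsmulRec
      mul := mul
      one := e
      mul_one := fun x => by show mul x e = x; simp [mul, hoe.symm, μe]
      one_mul := fun y => by
        show mul e y = y
        by_cases hy : y = o
        · simp [mul, hy]
        · simp [mul, hy, hμ2]
      mul_assoc := fun x y z => by
        show mul (mul x y) z = mul x (mul y z)
        by_cases hz : z = o
        · simp [hz, mul_o]
        by_cases hy : y = o
        · simp [hy, mul_o, o_mul]
        · simp only [mul, dif_neg hy, dif_neg hz, dif_neg (mul_ne y z hz hy)]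
          rw [← μμ y z hy hz, mul_smul]
      right_distrib := fun x y z => by
        show mul (add x y) z = add (mul x z) (mul y z)
        by_cases hz : z = o
        · simp only [hz, mul_o]
          show o = τ o • o
          rw [hτo, one_smul]
        · simp only [mul, dif_neg hz]
          exact hdistrib _ (hμ1 z hz) x y
      mul_zero := mul_o
      zero_ne_one := hoe
      exists_inv := fun y hy => by
        have hb : (μ y hy)⁻¹ • e ≠ o := fun h => hoe (smul_left_cancel (μ y hy)⁻¹ (h.trans (inv_smul_eq_iff.2 (hμ1 y hy).symm).symm)).symm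
        refine ⟨(μ y hy)⁻¹ • e, ?_, ?_⟩
        · show mul y ((μ y hy)⁻¹ • e) = e
          simp only [mul, dif_neg hb]
          rw [← hμu (μ y hy)⁻¹ _ hb (inv_smul_eq_iff.2 (hμ1 y hy).symm) rfl, inv_smul_eq_iff, hμ2]
        · show mul ((μ y hy)⁻¹ • e) y = e
          simp only [mul, dif_neg (show ¬ y = o from hy), smul_inv_smul] }
  refine ⟨nf, fun σ => ⟨fun hσ => ?_, ?_⟩⟩
  · set g : G := ⟨σ, hσ⟩
    set h : G := ((τ (g • o)) : G)⁻¹ * g
    have h0 : h • o = o := by
      rw [mul_smul, inv_smul_eq_iff]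
      exact (hτ (g • o)).symm
    have hne : h • e ≠ o := fun hh => hoe (smul_left_cancel h (h0.trans hh.symm))
    refine ⟨h • e, g • o, hne, fun x => ?_⟩
    show g • x = τ (g • o) • mul x (h • e)
    simp only [mul, dif_neg hne]
    rw [← hμu h _ hne h0 rfl]
    show g • x = (τ (g • o) : G) • h • x
    rw [mul_smul, smul_inv_smul]
  · rintro ⟨a, b, ha, hσ⟩
    have ha' : a ≠ o := ha
    have e1 : σ = (((τ b : G) * μ a ha' : G) : Equiv.Perm α) := Equiv.ext fun x => by
      refine (hσ x).trans ?_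
      show τ b • mul x a = _
      simp only [mul, dif_neg ha']
      rfl
    rw [e1]
    exact Subtype.coe_prop _

end Cfsg.Lib.PermGroups
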