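import Mathlib

/-! Multiple transitivity from one-coordinate moves; transitivity from congruences on orbit sizes. -/

set_option autoImplicit false

open MulAction

namespace Cfsg.Lib.PermGroups

variable {G α : Type*} [Group G] [MulAction G α]

theorem exists_notMem_range [Fintype α] {k : ℕ} (hk : k < Fintype.card α) (x : Fin k ↪ α) :
    ∃ b, b ∉ Set.range x := by
  by_contra h
  push Not at h
  have := Fintype.card_le_of_surjective x h
  rw [Fintype.card_fin] at this
  omega

/-- If a single coordinate of a tuple can always be moved to any free point, the group is `k`-transitive. -/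
theorem isMultiplyPretransitive_of_moves [Fintype α] {k : ℕ} (hk : k < Fintype.card α)
    (h : ∀ (x : Fin k ↪ α) (i : Fin k) (b : α), b ∉ Set.range x →
      ∃ g : G, g • x i = b ∧ ∀ j, j ≠ i → g • x j = x j) :
    IsMultiplyPretransitive G α k := by
  classical
  rw [isMultiplyPretransitive_iff]
  suffices H : ∀ d : ℕ, ∀ x y : Fin k ↪ α, (Finset.univ.filter fun i => x i ≠ y i).card ≤ d → ∃ g : G, g • x = y by
    exact fun x y => H k x y (le_trans (Finset.card_le_univ _) (Fintype.card_fin k).le)
  intro d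
  induction d with
  | zero =>
    intro x y hxy
    refine ⟨1, Function.Embedding.ext fun i => ?_⟩
    rw [one_smul]
    by_contra hi
    simp only [Nat.le_zero, Finset.card_eq_zero, Finset.filter_eq_empty_iff] at hxy
    exact hxy (Finset.mem_univ i) hi
  | succ d ih =>
    intro x y hxy
    by_cases he : x = y
    · exact ⟨1, by rw [one_smul, he]⟩
    obtain ⟨i, hi⟩ : ∃ i, x i ≠ y i := by
      by_contra h'
      push Not at h'
      exact he (Function.Embedding.ext h')
    -- move one disagreeing coordinate into place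
    have place : ∀ x : Fin k ↪ α, (∀ j, j ≠ i → y i ≠ x j) → x i ≠ y i →
        ∃ g : G, (g • x) i = y i ∧ ∀ j, j ≠ i → (g • x) j = x j := fun x hx hne => by
      refine h x i (y i) ?_
      rintro ⟨j, hj⟩
      by_cases hji : j = i
      · exact hne (hji ▸ hj)
      · exact hx j hji hj.symm
    have count : ∀ x' : Fin k ↪ α, x' i = y i → (∀ j, j ≠ i → x' j ≠ y j → x j ≠ y j) →
        (Finset.univ.filter fun j => x' j ≠ y j).card ≤ d := fun x' h1 h2 => by
      have : (Finset.univ.filter fun j => x' j ≠ y j) ⊆ (Finset.univ.filter fun j => x j ≠ y j).erase i := by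
        intro j hj
        simp only [Finset.mem_filter, Finset.mem_univ, true_and] at hj
        have hji : j ≠ i := fun e => hj (e ▸ h1)
        simp [Finset.mem_erase, hji, h2 j hji hj]
      have h3 := Finset.card_le_card this
      rw [Finset.card_erase_of_mem (by simp [hi])] at h3
      omega
    by_cases hmem : ∃ j, j ≠ i ∧ y i = x j
    · obtain ⟨j, hji, hj⟩ := hmem
      obtain ⟨b, hb⟩ := exists_notMem_range hk x
      obtain ⟨g, hg1, hg2⟩ := h x j b hb
      have hfree : ∀ l, l ≠ i → y i ≠ (g • x) l := by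
        intro l hli e
        rw [Function.Embedding.smul_apply] at e
        by_cases hlj : l = j
        · rw [hlj, hg1] at e
          exact hb ⟨j, hj.symm.trans e⟩
        · rw [hg2 l hlj, hj] at e
          exact hlj (x.injective e.symm)
      have hne : (g • x) i ≠ y i := by
        rw [Function.Embedding.smul_apply, hg2 i hji.symm]
        exact hi
      obtain ⟨g', hg1', hg2'⟩ := place (g • x) hfree hne
      obtain ⟨g'', hg''⟩ := ih (g' • g • x) y (count _ hg1' fun l hli hl hxl => by
        rw [hg2' l hli, Function.Embedding.smul_apply] at hl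
        by_cases hlj : l = j
        · rw [hlj] at hxl
          exact hji (y.injective (hj.trans hxl)).symm
        · rw [hg2 l hlj] at hl
          exact hl hxl)
      exact ⟨g'' * g' * g, by rw [mul_smul, mul_smul, hg'']⟩
    · push Not at hmem
      obtain ⟨g, hg1, hg2⟩ := place x hmem hi
      obtain ⟨g', hg'⟩ := ih (g • x) y (count _ hg1 fun l hli hl => by rw [hg2 l hli] at hl; exact hl)
      exact ⟨g' * g, by rw [mul_smul, hg']⟩

/-- An invariant finite set all whose orbits have size divisible by `d` has size divisible by `d`. -/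
theorem dvd_card_of_orbits [Finite α] (K : Subgroup G) (d : ℕ) (S : Set α)
    (hS : ∀ k ∈ K, ∀ x ∈ S, k • x ∈ S) (hd : ∀ x ∈ S, d ∣ Nat.card (orbit K x)) : d ∣ S.ncard := by
  induction hn : S.ncard using Nat.strong_induction_on generalizing S with
  | _ n ih =>
    rcases S.eq_empty_or_nonempty with rfl | ⟨x, hx⟩
    · simp at hn
      simp [← hn]
    have hsub : orbit K x ⊆ S := by
      rintro _ ⟨k, rfl⟩
      exact hS k.1 k.2 x hx
    have hadd := Set.ncard_sdiff_add_ncard_of_subset hsub (Set.toFinite S)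
    have hpos : 0 < (orbit K x).ncard := (Set.ncard_pos (Set.toFinite _)).2 ⟨x, mem_orbit_self x⟩
    have h1 : d ∣ (S \ orbit K x).ncard := by
      refine ih (S \ orbit K x).ncard (by omega) (S \ orbit K x) (fun k hk y hy => ⟨hS k hk y hy.1, fun hc => hy.2 ?_⟩) (fun y hy => hd y hy.1) rfl
      obtain ⟨k', hk'⟩ := hc
      refine ⟨(⟨k, hk⟩ : K)⁻¹ * k', ?_⟩
      show (((⟨k, hk⟩ : K)⁻¹ * k' : K) • x) = y
      rw [mul_smul, show k' • x = k • y from hk', inv_smul_eq_iff]
      rfl
    rw [← hn, ← hadd]
    exact dvd_add h1 (by rw [← Nat.card_coe_set_eq]; exact hd x hx)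

/-- Two-congruence argument: every point of `T` is fixed by a subgroup with all other orbits divisible by `d`. -/
theorem transitive_on_of_congr [Finite α] (H : Subgroup G) (T : Set α) (hT : ∀ h ∈ H, ∀ x ∈ T, h • x ∈ T)
    {d : ℕ} (hd : d ≠ 1)
    (h : ∀ c ∈ T, ∃ K : Subgroup G, K ≤ H ∧ (∀ k ∈ K, k • c = c) ∧ ∀ x ∈ T, x ≠ c → d ∣ Nat.card (orbit K x))
    {a b : α} (ha : a ∈ T) (hb : b ∈ T) : ∃ g ∈ H, g • a = b := by
  by_contra hab
  push Not at hab
  have hO : ∀ h' ∈ H, ∀ x ∈ orbit H b, h' • x ∈ orbit H b := fun h' hh x hx => by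
    obtain ⟨k, rfl⟩ := hx
    exact ⟨⟨h', hh⟩ * k, (mul_smul _ _ _)⟩
  have hbT : orbit H b ⊆ T := by
    rintro _ ⟨k, rfl⟩
    exact hT k.1 k.2 b hb
  -- from `a`: the orbit of `b` has size divisible by `d`
  obtain ⟨K, hK, -, hKd⟩ := h a ha
  have h1 : d ∣ (orbit H b).ncard := dvd_card_of_orbits K d _ (fun k hk => hO k (hK hk)) fun x hx =>
    hKd x (hbT hx) fun e => by
      obtain ⟨k, hk⟩ := e ▸ hx
      exact hab k.1⁻¹ (H.inv_mem k.2) (inv_smul_eq_iff.2 hk.symm)
  -- from `b`: one less is divisible by `d`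
  obtain ⟨K, hK, hKb, hKd⟩ := h b hb
  have h2 : d ∣ (orbit H b \ {b}).ncard := dvd_card_of_orbits K d _
    (fun k hk x hx => ⟨hO k (hK hk) x hx.1, fun e => hx.2 (smul_left_cancel k ((Set.mem_singleton_iff.1 e).trans (hKb k hk).symm))⟩)
    fun x hx => hKd x (hbT hx.1) hx.2
  have h3 := Set.ncard_sdiff_singleton_add_one (mem_orbit_self b : b ∈ orbit H b) (Set.toFinite _)
  exact hd (Nat.dvd_one.1 ((Nat.dvd_add_right h2).1 (h3 ▸ h1)))

end Cfsg.Lib.PermGroups
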