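import Cfsg.Agent.Frobenius.Kernel
import Cfsg.Agent.Frobenius.Complement
import Mathlib

set_option autoImplicit false

/-!
Minimal normal subgroups of doubly transitive groups.
-/

namespace Cfsg.Lib.PermGroups.BurnsideMinimal

open scoped Pointwise

universe u v

variable {G : Type u} [Group G] {α : Type v} [MulAction G α]

theorem fixes_all_of_commute {M : Subgroup G} (htr : MulAction.IsPretransitive M α) {x : G}
    (hx : ∀ m ∈ M, m * x = x * m) {a : α} (ha : x • a = a) (c : α) : x • c = c := by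
  obtain ⟨m, rfl⟩ := MulAction.exists_smul_eq M a c
  show x • (m : G) • a = (m : G) • a
  rw [← mul_smul, ← hx m m.2, mul_smul, ha]

/-- A transitive semiregular subgroup whose point stabiliser of the big group induces order-preserving
maps on it consists of elements of one prime order. -/
theorem exponent_prime [Finite G] [Finite α] [Nontrivial α] (M : Subgroup G) (htr : MulAction.IsPretransitive M α)
    (a : α) (hfree : ∀ x ∈ M, x • a = a → x = 1)
    (h2 : ∀ b c : α, b ≠ a → c ≠ a → ∃ g : G, g • a = a ∧ g • b = c)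
    (hord : ∀ g : G, g • a = a → ∀ x ∈ M, ∀ y ∈ M, y • a = g • x • a → orderOf y = orderOf x) :
    ∃ p : ℕ, p.Prime ∧ ∀ x ∈ M, x ^ p = 1 := by
  obtain ⟨b, hb⟩ := exists_ne a
  obtain ⟨⟨m, hm⟩, hmb⟩ := MulAction.exists_smul_eq M a b
  have hm1 : m ≠ 1 := fun e => hb (by rw [← hmb]; show m • a = a; rw [e, one_smul])
  have hMne : Nat.card M ≠ 1 := fun e => hm1 (by
    have : Subsingleton M := (Nat.card_eq_one_iff_unique.1 e).1
    exact congrArg Subtype.val (Subsingleton.elim (⟨m, hm⟩ : M) 1))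
  obtain ⟨p, hp, hpd⟩ := Nat.exists_prime_and_dvd hMne
  have : Fact p.Prime := ⟨hp⟩
  obtain ⟨⟨x₀, hx₀⟩, ho⟩ := exists_prime_orderOf_dvd_card' p hpd
  replace ho : orderOf x₀ = p := (Subgroup.orderOf_coe _).trans ho
  have hx₀1 : x₀ • a ≠ a := fun e => by
    rw [hfree x₀ hx₀ e, orderOf_one] at ho
    exact hp.one_lt.ne ho
  refine ⟨p, hp, fun x hx => ?_⟩
  by_cases hx1 : x • a = a
  · rw [hfree x hx hx1, one_pow]
  obtain ⟨g, hga, hgb⟩ := h2 _ _ hx₀1 hx1
  rw [← ho, ← hord g hga x₀ hx₀ x hx hgb.symm, pow_orderOf_eq_one]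

/-- Two commuting semiregular elements agreeing at a point have the same order. -/
theorem orderOf_eq_of_agree {M M' : Subgroup G} {a : α} (hfree : ∀ x ∈ M, x • a = a → x = 1)
    (hfree' : ∀ x ∈ M', x • a = a → x = 1) (hcomm : ∀ x ∈ M, ∀ x' ∈ M', x * x' = x' * x)
    {y z : G} (hy : y ∈ M) (hz : z ∈ M') (h : y • a = z • a) : orderOf y = orderOf z := by
  have hk : ∀ k : ℕ, (z ^ k) • a = (y ^ k) • a := fun k => by
    induction k with
    | zero => simp
    | succ k ih =>
      rw [pow_succ', mul_smul, ih, ← mul_smul, ← hcomm _ (M.pow_mem hy k) z hz, mul_smul, ← h, ← mul_smul,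
        ← pow_succ, pow_succ']
  refine orderOf_eq_orderOf_iff.2 fun k => ⟨fun e => hfree' _ (M'.pow_mem hz k) ?_, fun e => hfree _ (M.pow_mem hy k) ?_⟩
  · rw [hk, e, one_smul]
  · rw [← hk, e, one_smul]

/-- A normal transitive subgroup of a doubly transitive group is primitive or acts as a Frobenius group. -/
theorem frobenius_of_imprimitive [Fintype α] [Finite G] [FaithfulSMul G α]
    (h2 : ∀ a b c d : α, a ≠ b → c ≠ d → ∃ g : G, g • a = c ∧ g • b = d)
    (N : Subgroup G) [N.Normal] [MulAction.IsPretransitive N α] (B : Set α) (hB : MulAction.IsBlock N B)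
    (hB1 : ¬ B.Subsingleton) (hBuniv : B ≠ Set.univ) (a b : α) (hab : a ≠ b) (n : N) (hna : n • a = a) (hnb : n • b = b) : n = 1 := by
  classical
  let r : α → α → Prop := fun x y => ∃ k : N, x ∈ k • B ∧ y ∈ k • B
  obtain ⟨b₀, hb₀, b₁, hb₁, hb01⟩ : ∃ x ∈ B, ∃ y ∈ B, x ≠ y := Set.not_subsingleton_iff.1 hB1
  have hrefl : ∀ x, r x x := fun x => by
    obtain ⟨k, rfl⟩ := MulAction.exists_smul_eq N b₀ x
    exact ⟨k, Set.smul_mem_smul_set hb₀, Set.smul_mem_smul_set hb₀⟩
  have hsymm : ∀ x y, r x y → r y x := fun x y ⟨k, h1, h2⟩ => ⟨k, h2, h1⟩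
  have htrans : ∀ x y z, r x y → r y z → r x z := by
    rintro x y z ⟨k, h1, h2⟩ ⟨l, h3, h4⟩
    refine ⟨k, h1, ?_⟩
    rw [hB.smul_eq_smul_of_nonempty ⟨y, h2, h3⟩]
    exact h4
  have hinv : ∀ (k : N) x y, r (k • x) (k • y) ↔ r x y := by
    have h1 : ∀ (k : N) x y, r x y → r (k • x) (k • y) := by
      rintro k x y ⟨l, h1, h2⟩
      exact ⟨k * l, by rw [mul_smul]; exact Set.smul_mem_smul_set h1, by rw [mul_smul]; exact Set.smul_mem_smul_set h2⟩
    intro k x y
    refine ⟨fun h => ?_, h1 k x y⟩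
    have := h1 k⁻¹ _ _ h
    rwa [inv_smul_smul, inv_smul_smul] at this
  let cls : α → Finset α := fun x => Finset.univ.filter (fun y => r x y)
  have hcls : ∀ x y, y ∈ cls x ↔ r x y := fun x y => by simp [cls]
  have hclsk : ∀ (k : N) x, (cls (k • x)).card = (cls x).card := fun k x =>
    (Finset.card_equiv (MulAction.toPerm k) fun y => by simp [hcls, hinv]).symm
  set m := (cls b₀).card
  have hm : ∀ x, (cls x).card = m := fun x => by
    obtain ⟨k, rfl⟩ := MulAction.exists_smul_eq N b₀ x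
    exact hclsk k b₀
  have hmate : ∀ x, ∃ y, r x y ∧ y ≠ x := fun x => by
    have h2' : 1 < (cls x).card := by
      rw [hm]
      exact Finset.one_lt_card.2 ⟨b₀, (hcls _ _).2 (hrefl _), b₁, (hcls _ _).2 ⟨1, by rwa [one_smul], by rwa [one_smul]⟩, hb01⟩
    obtain ⟨y, hy, hne⟩ := (Finset.one_lt_card_iff_nontrivial.1 h2').exists_ne x
    exact ⟨y, (hcls _ _).1 hy, hne⟩
  let orb : α → α → Finset α := fun x y => Finset.univ.filter (fun z => ∃ k : N, k • x = x ∧ k • y = z)
  have horb : ∀ x y z, z ∈ orb x y ↔ ∃ k : N, k • x = x ∧ k • y = z := fun x y z => by simp [orb]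
  set s := (orb a b).card
  have hs : ∀ x y, x ≠ y → (orb x y).card = s := fun x y hxy => by
    obtain ⟨g, rfl, rfl⟩ := h2 a b x y hab hxy
    refine (Finset.card_equiv (MulAction.toPerm g) fun z => ?_).symm
    rw [horb, horb, MulAction.toPerm_apply]
    constructor
    · rintro ⟨⟨k, hk⟩, h1, rfl⟩
      refine ⟨⟨g * k * g⁻¹, Subgroup.Normal.conj_mem inferInstance k hk g⟩, ?_, ?_⟩
      · show (g * k * g⁻¹) • g • a = g • a
        rw [mul_smul, inv_smul_smul, mul_smul, show k • a = a from h1]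
      · show (g * k * g⁻¹) • g • b = g • k • b
        rw [mul_smul, inv_smul_smul, mul_smul]
    · rintro ⟨⟨k, hk⟩, h1, h2'⟩
      refine ⟨⟨g⁻¹ * k * g, ?_⟩, ?_, ?_⟩
      · simpa using Subgroup.Normal.conj_mem inferInstance k hk g⁻¹
      · show (g⁻¹ * k * g) • a = a
        rw [mul_smul, mul_smul, show k • g • a = g • a from h1, inv_smul_smul]
      · show (g⁻¹ * k * g) • b = z
        rw [mul_smul, mul_smul, show k • g • b = g • z from h2', inv_smul_smul]
  have hmemorb : ∀ x y, y ∈ orb x y := fun x y => (horb _ _ _).2 ⟨1, one_smul _ _, one_smul _ _⟩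
  have horbeq : ∀ x y z, z ∈ orb x y → orb x z = orb x y := fun x y z hz => by
    obtain ⟨k, h1, rfl⟩ := (horb _ _ _).1 hz
    ext w
    rw [horb, horb]
    constructor
    · rintro ⟨l, h2', rfl⟩
      exact ⟨l * k, by rw [mul_smul, h1, h2'], mul_smul _ _ _⟩
    · rintro ⟨l, h2', rfl⟩
      refine ⟨l * k⁻¹, ?_, by rw [mul_smul, inv_smul_smul]⟩
      rw [mul_smul, inv_smul_eq_iff.2 h1.symm, h2']
  have hdvd : ∀ x (U : Finset α), x ∉ U → (∀ y ∈ U, orb x y ⊆ U) → s ∣ U.card := fun x U hx hU => by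
    rw [Finset.card_eq_sum_card_image (orb x) U]
    refine Finset.dvd_sum fun O hO => ?_
    obtain ⟨y, hy, rfl⟩ := Finset.mem_image.1 hO
    rw [show (U.filter fun z => orb x z = orb x y) = orb x y from Finset.ext fun z => by
      rw [Finset.mem_filter]
      exact ⟨fun h => h.2 ▸ hmemorb x z, fun h => ⟨hU y hy h, horbeq x y z h⟩⟩, hs x y fun e => hx (e ▸ hy)]
  -- elements fixing `x` fix pointwise the foreign classes they fix
  have key : ∀ x c : α, ¬ r x c → ∀ k : N, k • x = x → r (k • c) c → k • c = c := by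
    intro x c hxc k hkx hkc
    set O := orb x c
    have hxne : ∀ z ∈ O, ¬ r x z := fun z hz h => by
      obtain ⟨l, h1, rfl⟩ := (horb _ _ _).1 hz
      exact hxc ((hinv l x c).1 (by rw [h1]; exact h))
    set t := (O.filter fun o => r c o).card
    have ht : ∀ d, (∃ o ∈ O, r o d) → (O.filter fun o => r d o).card = t := by
      rintro d ⟨o, ho, hod⟩
      obtain ⟨l, h1, rfl⟩ := (horb _ _ _).1 ho
      refine (Finset.card_equiv (MulAction.toPerm l) fun z => ?_).symm
      simp only [Finset.mem_filter, MulAction.toPerm_apply]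
      refine and_congr ?_ ?_
      · rw [horb, horb]
        constructor
        · rintro ⟨j, h3, rfl⟩; exact ⟨l * j, by rw [mul_smul, h3, h1], mul_smul _ _ _⟩
        · rintro ⟨j, h3, h4⟩
          exact ⟨l⁻¹ * j, by rw [mul_smul, h3, inv_smul_eq_iff.2 h1.symm], by rw [mul_smul, h4, inv_smul_smul]⟩
      · rw [← hinv l c z]
        exact ⟨fun h => htrans _ _ _ (hsymm _ _ hod) h, fun h => htrans _ _ _ hod h⟩
    set U := Finset.univ.filter fun d => ∃ o ∈ O, r o d
    have hUs : s ∣ U.card := hdvd x U (fun h => by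
        obtain ⟨o, ho, h⟩ := (Finset.mem_filter.1 h).2
        exact hxne o ho (hsymm _ _ h)) (fun y hy z hz => by
        obtain ⟨o, ho, hoy⟩ := (Finset.mem_filter.1 hy).2
        obtain ⟨l, h1, rfl⟩ := (horb _ _ _).1 hz
        obtain ⟨j, h3, rfl⟩ := (horb _ _ _).1 ho
        exact Finset.mem_filter.2 ⟨Finset.mem_univ _, l • j • c,
          (horb _ _ _).2 ⟨l * j, by rw [mul_smul, h3, h1], mul_smul _ _ _⟩, (hinv l _ _).2 hoy⟩)
    have hcount : s * m = U.card * t := by
      have h1 : ∑ o ∈ O, (Finset.univ.filter fun d => r o d).card = s * m := by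
        rw [Finset.sum_congr rfl fun o _ => hm o, Finset.sum_const, smul_eq_mul, hs x c (fun e => hxc (e ▸ hrefl x))]
      have h2' : ∑ o ∈ O, (Finset.univ.filter fun d => r o d).card = ∑ d ∈ U, (O.filter fun o => r d o).card := by
        simp only [Finset.card_filter]
        rw [Finset.sum_comm]
        refine (Finset.sum_subset (Finset.subset_univ U) fun d _ hd => ?_).symm.trans ?_
        · exact Finset.sum_eq_zero fun o ho => if_neg fun h => hd (Finset.mem_filter.2 ⟨Finset.mem_univ _, o, ho, h⟩)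
        · exact Finset.sum_congr rfl fun d _ => Finset.sum_congr rfl fun o _ => if_congr ⟨hsymm _ _, hsymm _ _⟩ rfl rfl
      rw [← h1, h2', Finset.sum_congr rfl fun d hd => ht d (Finset.mem_filter.1 hd).2, Finset.sum_const, smul_eq_mul]
    have hts : t ∣ s := by
      have hsum := Finset.card_eq_sum_card_image cls O
      have : ∀ C ∈ O.image cls, t ∣ (O.filter fun o => cls o = C).card := fun C hC => by
        obtain ⟨o, ho, rfl⟩ := Finset.mem_image.1 hC
        rw [show (O.filter fun z => cls z = cls o) = O.filter fun z => r o z from Finset.ext fun z => by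
          simp only [Finset.mem_filter, and_congr_right_iff]
          intro _
          constructor
          · intro h; rw [← hcls, ← h, hcls]; exact hrefl z
          · intro h; ext w; rw [hcls, hcls]; exact ⟨htrans _ _ _ h, htrans _ _ _ (hsymm _ _ h)⟩,
          ht o ⟨o, ho, hrefl o⟩]
      rw [← hs x c (fun e => hxc (e ▸ hrefl x)), show (orb x c).card = O.card from rfl, hsum]
      exact Finset.dvd_sum this
    have hspos : 0 < s := Finset.card_pos.2 ⟨b, hmemorb a b⟩
    have htm : t ∣ m := by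
      obtain ⟨j, hj⟩ := hUs
      rw [hj, mul_assoc] at hcount
      exact ⟨j, by rw [Nat.eq_of_mul_eq_mul_left hspos hcount, mul_comm]⟩
    have hsm1 : s ∣ m - 1 := by
      rw [← hm x, ← Finset.card_erase_of_mem ((hcls x x).2 (hrefl x))]
      refine hdvd x _ (Finset.notMem_erase _ _) fun y hy z hz => ?_
      obtain ⟨l, h1, rfl⟩ := (horb _ _ _).1 hz
      obtain ⟨hyx, hy⟩ := Finset.mem_erase.1 hy
      refine Finset.mem_erase.2 ⟨fun e => hyx (MulAction.injective l (e.trans h1.symm)), (hcls _ _).2 ?_⟩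
      rw [← h1, hinv]
      exact (hcls _ _).1 hy
    have hmpos : 0 < m := Finset.card_pos.2 ⟨b₀, (hcls _ _).2 (hrefl _)⟩
    have ht1 : t ∣ 1 := by
      have := Nat.dvd_sub htm (hts.trans hsm1)
      rwa [show m - (m - 1) = 1 by omega] at this
    exact Finset.card_le_one.1 (Nat.le_of_dvd one_pos ht1) _
      (Finset.mem_filter.2 ⟨(horb _ _ _).2 ⟨k, hkx, rfl⟩, hsymm _ _ hkc⟩) _
      (Finset.mem_filter.2 ⟨hmemorb _ _, hrefl _⟩)
  -- two-point stabilisers all have one order
  let St : α → α → Subgroup N := fun x y => MulAction.stabilizer N x ⊓ MulAction.stabilizer N y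
  have hcard : ∀ x d, d ≠ x → Nat.card (St x d) * s = Nat.card (MulAction.stabilizer N x) := fun x d hd => by
    set H := MulAction.stabilizer N x
    rw [← (MulAction.stabilizer H d).card_mul_index, MulAction.index_stabilizer]
    congr 1
    · exact Nat.card_congr
        { toFun := fun k => ⟨⟨k.1, k.2.1⟩, k.2.2⟩
          invFun := fun k => ⟨k.1.1, k.1.2, k.2⟩
          left_inv := fun k => rfl
          right_inv := fun k => rfl }
    · rw [← hs x d hd.symm, Set.ncard_eq_toFinset_card']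
      congr 1
      ext z
      rw [horb, Set.mem_toFinset]
      exact ⟨fun ⟨k, h1, h2'⟩ => ⟨⟨k, h1⟩, h2'⟩, fun ⟨k, h2'⟩ => ⟨k.1, k.2, h2'⟩⟩
  have hsame : ∀ x y d, r x y → y ≠ x → ¬ r x d → St x d = St x y := fun x y d hxy hyx hxd => by
    refine Subgroup.eq_of_le_of_card_ge (fun k hk => ⟨hk.1, ?_⟩) (le_of_eq ?_)
    · have hkx : k • x = x := hk.1
      have hkd : k • d = d := hk.2
      show k • y = y
      refine key d y (fun h => hxd (htrans _ _ _ hxy (hsymm _ _ h))) k hkd ?_
      have hh : r (k • y) (k • x) := (hinv k y x).2 (hsymm _ _ hxy)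
      rw [hkx] at hh
      exact htrans _ _ _ hh hxy
    · exact Nat.eq_of_mul_eq_mul_right (Finset.card_pos.2 ⟨b, hmemorb a b⟩)
        ((hcard x y hyx).trans (hcard x d (fun e => hxd (e ▸ hrefl x))).symm)
  obtain ⟨y, hy, hya⟩ := hmate a
  by_cases hall : ∀ z, r a z
  · refine absurd (Set.eq_univ_of_forall fun z => ?_) hBuniv
    obtain ⟨k, hk1, hk2⟩ : r b₀ z := htrans _ _ _ (hsymm _ _ (hall b₀)) (hall z)
    have : k • B = B := by
      have := hB.smul_eq_smul_of_nonempty (g₁ := k) (g₂ := (1 : N)) ⟨b₀, hk1, by rwa [one_smul]⟩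
      rwa [one_smul] at this
    rwa [this] at hk2
  push Not at hall
  obtain ⟨d₀, hd₀⟩ := hall
  have hSt : ∀ d, d ≠ a → St a d = St a d₀ := fun d hd => by
    by_cases hr : r a d
    · exact (hsame a d d₀ hr hd hd₀).symm
    · exact (hsame a y d hy hya hr).trans (hsame a y d₀ hy hya hd₀).symm
  have hfix : ∀ d, (n : G) • d = d := fun d => by
    by_cases hd : d = a
    · rw [hd]; exact hna
    · have h1 : n ∈ St a b := ⟨hna, hnb⟩
      rw [hSt b hab.symm, ← hSt d hd] at h1
      exact h1.2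
  exact Subtype.ext (FaithfulSMul.eq_of_smul_eq_smul (α := α) fun d => by rw [hfix, OneMemClass.coe_one, one_smul])

end Cfsg.Lib.PermGroups.BurnsideMinimal
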