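import Cfsg.Prelude.Def_Perm
import Cfsg.Agent.Chars.Perm
import Cfsg.Agent.Chars.Sums
import Mathlib

set_option autoImplicit false

/-!
Constituents of a representation and its commutant.
-/

namespace Cfsg.Lib.PermGroups.Constituents

open scoped ComplexConjugate
open Cfsg.Lib.Chars Module

universe u v w

variable {G : Type u} [Group G] [Fintype G] {V : Type v} [AddCommGroup V] [Module ℂ V]
  [FiniteDimensional ℂ V] (ρ : Representation ℂ G V)

theorem classInner_eq_finrank {W : Type w} [AddCommGroup W] [Module ℂ W] [FiniteDimensional ℂ W]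
    (σ : Representation ℂ G W) :
    Cfsg.classInner ρ.character σ.character = (finrank ℂ (σ.linHom ρ).invariants : ℂ) := by
  have : Invertible (Nat.card G : ℂ) := invertibleOfNonzero (by exact_mod_cast Nat.card_pos.ne')
  rw [← Representation.card_inv_mul_sum_char_eq_finrank (σ.linHom ρ), classInner_def]
  congr 1
  exact Finset.sum_congr rfl fun g _ => by rw [Representation.char_linHom, character_inv σ, mul_comm]

theorem mem_invariants_iff {W : Type w} [AddCommGroup W] [Module ℂ W]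
    (σ : Representation ℂ G W) (S : W →ₗ[ℂ] V) :
    S ∈ (σ.linHom ρ).invariants ↔ ∀ g v, S (σ g v) = ρ g (S v) := by
  constructor
  · intro h g v
    have := LinearMap.congr_fun (h g) (σ g v)
    simp only [Representation.linHom_apply, LinearMap.comp_apply] at this
    rw [← this, ← Module.End.mul_apply (σ g⁻¹), ← map_mul, inv_mul_cancel, map_one]
    rfl
  · intro h g
    refine LinearMap.ext fun v => ?_
    simp only [Representation.linHom_apply, LinearMap.comp_apply]
    rw [h, ← Module.End.mul_apply (ρ g), ← map_mul, mul_inv_cancel, map_one]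
    rfl

/-- The multiplicity of an irreducible character in `ρ`. -/
noncomputable def mult (χ : Cfsg.IrrCharacter G) : ℕ :=
  Classical.choose (IsCharacter.exists_mult (isCharacter_character ρ) χ.2)

theorem mult_spec (χ : Cfsg.IrrCharacter G) : Cfsg.classInner ρ.character χ = (mult ρ χ : ℂ) :=
  Classical.choose_spec (IsCharacter.exists_mult (isCharacter_character ρ) χ.2)

theorem character_expand (g : G) :
    ρ.character g = ∑ χ : Cfsg.IrrCharacter G, (mult ρ χ : ℂ) * (χ : G → ℂ) g := by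
  simp only [← mult_spec]
  exact classFunction_expand_apply (isClassFunction_character ρ) g

theorem mult_compl (S T : Subrepresentation ρ) (h : IsCompl S.toSubmodule T.toSubmodule)
    (χ : Cfsg.IrrCharacter G) : mult S.toRepresentation χ ≤ mult ρ χ := by
  have h1 := mult_spec ρ χ
  rw [character_compl ρ S T h, classInner_add_left, mult_spec, mult_spec] at h1
  have h2 : mult S.toRepresentation χ + mult T.toRepresentation χ = mult ρ χ := by exact_mod_cast h1
  omega

theorem finrank_commutant :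
    finrank ℂ (ρ.linHom ρ).invariants = ∑ χ : Cfsg.IrrCharacter G, mult ρ χ ^ 2 := by
  apply Nat.cast_injective (R := ℂ)
  rw [← classInner_eq_finrank ρ ρ]
  conv_lhs => arg 2; rw [classFunction_expand (isClassFunction_character ρ)]
  rw [classInner_sum_right, Nat.cast_sum]
  refine Finset.sum_congr rfl fun χ _ => ?_
  rw [classInner_smul_right, mult_spec, Nat.cast_pow, Complex.conj_natCast, sq]

/-- The operator of a function on the group. -/
noncomputable def op (f : G → ℂ) : V →ₗ[ℂ] V := ∑ g, f g • ρ g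

theorem op_mem {f : G → ℂ} (hf : Cfsg.IsClassFunction G f) : op ρ f ∈ (ρ.linHom ρ).invariants := by
  rw [mem_invariants_iff]
  intro a v
  simp only [op, LinearMap.sum_apply, LinearMap.smul_apply, map_sum, map_smul]
  refine Fintype.sum_equiv (MulAut.conj a⁻¹).toEquiv _ _ fun x => ?_
  simp only [MulEquiv.toEquiv_eq_coe, MulEquiv.coe_toEquiv, MulAut.conj_apply]
  rw [hf x a⁻¹]
  congr 1
  rw [← Module.End.mul_apply, ← Module.End.mul_apply, ← map_mul, ← map_mul]
  congr 2
  group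

theorem op_commute (f : G → ℂ) {S : V →ₗ[ℂ] V} (hS : S ∈ (ρ.linHom ρ).invariants) :
    S ∘ₗ op ρ f = op ρ f ∘ₗ S := by
  refine LinearMap.ext fun v => ?_
  simp only [op, LinearMap.comp_apply, LinearMap.sum_apply, LinearMap.smul_apply, map_sum, map_smul,
    (mem_invariants_iff ρ ρ S).1 hS]

theorem trace_op (χ : Cfsg.IrrCharacter G) (h : G) :
    LinearMap.trace ℂ V (op ρ (fun g => conj ((χ : G → ℂ) g)) * ρ h) =
      (Nat.card G : ℂ) * mult ρ χ / (χ : G → ℂ) 1 * (χ : G → ℂ) h := by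
  classical
  have hcl : Cfsg.IsClassFunction G fun g => conj ((χ : G → ℂ) g) := fun a b =>
    congrArg conj (isClassFunction_irr χ a b)
  have key : ∀ ψ : Cfsg.IrrCharacter G, ∑ x, conj ((χ : G → ℂ) x) * (ψ : G → ℂ) (x * h) =
      if ψ = χ then (Nat.card G : ℂ) / (χ : G → ℂ) 1 * (χ : G → ℂ) h else 0 := by
    rintro ⟨ψ, n, σ, hσ, rfl⟩
    show ∑ x, conj ((χ : G → ℂ) x) * σ.character (x * h) = _
    rw [sum_smul_rep_trace σ hcl h]
    have hs : ∑ x, conj ((χ : G → ℂ) x) * σ.character x =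
        (Nat.card G : ℂ) * Cfsg.classInner σ.character χ := by
      rw [classInner_def, mul_inv_cancel_left₀ (by exact_mod_cast Nat.card_pos.ne')]
      exact Finset.sum_congr rfl fun x _ => mul_comm _ _
    rw [hs]
    split
    · next e =>
      subst e
      rw [classInner_irrChar ⟨n, σ, hσ, rfl⟩ ⟨n, σ, hσ, rfl⟩, if_pos rfl, mul_one, ← Representation.char_one σ]
    · next e =>
      rw [classInner_irrChar ⟨n, σ, hσ, rfl⟩ χ.2, if_neg (fun e' => e (Subtype.ext e')), mul_zero,
        zero_div, zero_mul]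
  have : LinearMap.trace ℂ V (op ρ (fun g => conj ((χ : G → ℂ) g)) * ρ h) =
      ∑ g, conj ((χ : G → ℂ) g) * ρ.character (g * h) := by
    simp only [op, Finset.sum_mul, map_sum, smul_mul_assoc, map_smul, smul_eq_mul, ← map_mul ρ]
    rfl
  rw [this]
  simp only [character_expand ρ, Finset.mul_sum]
  rw [Finset.sum_comm, Finset.sum_eq_single χ]
  · rw [Finset.sum_congr rfl fun x _ => mul_left_comm _ _ _, ← Finset.mul_sum, key, if_pos rfl]
    ring
  · intro ψ _ hne
    rw [Finset.sum_congr rfl fun x _ => mul_left_comm _ _ _, ← Finset.mul_sum, key, if_neg hne, mul_zero]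
  · exact fun h => absurd (Finset.mem_univ χ) h

theorem op_indep :
    LinearIndependent ℂ (fun χ : {χ : Cfsg.IrrCharacter G // mult ρ χ ≠ 0} =>
      op ρ (fun g => conj ((χ.1 : G → ℂ) g))) := by
  classical
  rw [Fintype.linearIndependent_iff]
  intro c hc χ₀
  have h1 : ∀ h : G, ∑ χ : {χ : Cfsg.IrrCharacter G // mult ρ χ ≠ 0},
      (c χ * ((Nat.card G : ℂ) * mult ρ χ.1 / (χ.1 : G → ℂ) 1)) * (χ.1 : G → ℂ) h = 0 := fun h => by
    have := congrArg (fun T : V →ₗ[ℂ] V => LinearMap.trace ℂ V (T * ρ h)) hc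
    simp only [Finset.sum_mul, map_sum, smul_mul_assoc, map_smul, smul_eq_mul, trace_op, zero_mul,
      map_zero] at this
    rw [← this]
    exact Finset.sum_congr rfl fun χ _ => mul_assoc _ _ _
  have h2 := congrArg (fun φ : G → ℂ => Cfsg.classInner φ (χ₀.1 : G → ℂ))
    (funext h1 : (fun h => ∑ χ : {χ : Cfsg.IrrCharacter G // mult ρ χ ≠ 0},
      (c χ * ((Nat.card G : ℂ) * mult ρ χ.1 / (χ.1 : G → ℂ) 1)) * (χ.1 : G → ℂ) h) = fun _ => 0)
  rw [show (fun h => ∑ χ : {χ : Cfsg.IrrCharacter G // mult ρ χ ≠ 0},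
      (c χ * ((Nat.card G : ℂ) * mult ρ χ.1 / (χ.1 : G → ℂ) 1)) * (χ.1 : G → ℂ) h) =
      ∑ χ : {χ : Cfsg.IrrCharacter G // mult ρ χ ≠ 0},
      (c χ * ((Nat.card G : ℂ) * mult ρ χ.1 / (χ.1 : G → ℂ) 1)) • (χ.1 : G → ℂ) from
    funext fun h => by simp [Finset.sum_apply]] at h2
  rw [classInner_sum_left, show (fun _ => (0 : ℂ)) = (0 : G → ℂ) from rfl, classInner_zero_left,
    Finset.sum_eq_single χ₀] at h2
  · rw [classInner_smul_left, classInner_irr_self, mul_one] at h2
    refine (mul_eq_zero.1 h2).resolve_right ?_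
    exact div_ne_zero (mul_ne_zero (by exact_mod_cast Nat.card_pos.ne') (by exact_mod_cast χ₀.2))
      (IsIrrCharacter.apply_one_ne_zero χ₀.1.2)
  · intro χ _ hne
    rw [classInner_smul_left, classInner_irr_ne (fun e => hne (Subtype.ext e)), mul_zero]
  · exact fun h => absurd (Finset.mem_univ χ₀) h

theorem mem_span_op (hm : ∀ χ, mult ρ χ ≤ 1) {S : V →ₗ[ℂ] V} (hS : S ∈ (ρ.linHom ρ).invariants) :
    S ∈ Submodule.span ℂ (Set.range fun χ : {χ : Cfsg.IrrCharacter G // mult ρ χ ≠ 0} =>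
      op ρ (fun g => conj ((χ.1 : G → ℂ) g))) := by
  classical
  suffices h : Submodule.span ℂ (Set.range fun χ : {χ : Cfsg.IrrCharacter G // mult ρ χ ≠ 0} =>
      op ρ (fun g => conj ((χ.1 : G → ℂ) g))) = (ρ.linHom ρ).invariants by rw [h]; exact hS
  refine Submodule.eq_of_le_of_finrank_eq (Submodule.span_le.2 ?_) ?_
  · rintro _ ⟨χ, rfl⟩
    exact op_mem ρ fun a b => congrArg conj (isClassFunction_irr χ.1 a b)
  rw [finrank_span_eq_card (op_indep ρ), finrank_commutant, Fintype.card_subtype, Finset.card_filter]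
  refine Finset.sum_congr rfl fun χ _ => ?_
  have := hm χ
  interval_cases h : mult ρ χ <;> simp [h]

theorem commute_of_mult_le_one (hm : ∀ χ, mult ρ χ ≤ 1) {S T : V →ₗ[ℂ] V}
    (hS : S ∈ (ρ.linHom ρ).invariants) (hT : T ∈ (ρ.linHom ρ).invariants) : S ∘ₗ T = T ∘ₗ S := by
  refine Submodule.span_induction ?_ ?_ ?_ ?_ (mem_span_op ρ hm hT)
  · rintro _ ⟨χ, rfl⟩
    exact op_commute ρ _ hS
  · simp
  · intro x y _ _ hx hy
    simp [LinearMap.comp_add, LinearMap.add_comp, hx, hy]
  · intro a x _ hx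
    simp [LinearMap.comp_smul, LinearMap.smul_comp, hx]

theorem exists_noncommuting {χ : Cfsg.IrrCharacter G} (hm : 2 ≤ mult ρ χ) :
    ∃ S T : V →ₗ[ℂ] V, S ∈ (ρ.linHom ρ).invariants ∧ T ∈ (ρ.linHom ρ).invariants ∧
      S ∘ₗ T ≠ T ∘ₗ S := by
  obtain ⟨χ, n, σ, hσ, rfl⟩ := χ
  have hdim : 2 ≤ finrank ℂ (σ.linHom ρ).invariants := by
    have h := mult_spec ρ ⟨σ.character, n, σ, hσ, rfl⟩
    rw [classInner_eq_finrank ρ σ] at h
    have h2 : finrank ℂ (σ.linHom ρ).invariants = mult ρ ⟨σ.character, n, σ, hσ, rfl⟩ := by exact_mod_cast h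
    omega
  have : Nontrivial (σ.linHom ρ).invariants := Module.nontrivial_of_finrank_pos (R := ℂ) (by omega)
  obtain ⟨⟨i1, hi1⟩, hi1ne⟩ := exists_ne (0 : (σ.linHom ρ).invariants)
  obtain ⟨⟨i2, hi2⟩, hi2n⟩ : ∃ j : (σ.linHom ρ).invariants, j ∉ Submodule.span ℂ {⟨i1, hi1⟩} := by
    by_contra! h
    have hle := Submodule.finrank_mono (show (⊤ : Submodule ℂ (σ.linHom ρ).invariants) ≤ _ from fun x _ => h x)
    rw [finrank_top, finrank_span_singleton hi1ne] at hle
    omega
  have e1 := (mem_invariants_iff ρ σ i1).1 hi1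
  have e2 := (mem_invariants_iff ρ σ i2).1 hi2
  have hinj : Function.Injective i1 := by
    let K : Subrepresentation σ := ⟨LinearMap.ker i1, fun g v hv => by
      rw [LinearMap.mem_ker] at hv ⊢
      rw [e1, hv, map_zero]⟩
    rcases IsSimpleOrder.eq_bot_or_eq_top K with h | h
    · exact LinearMap.ker_eq_bot.1 (congrArg Subrepresentation.toSubmodule h)
    · exact absurd (Subtype.ext (LinearMap.ker_eq_top.1 (congrArg Subrepresentation.toSubmodule h))) hi1ne
  let R : Subrepresentation ρ := ⟨LinearMap.range i1, fun g v hv => by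
    obtain ⟨u, rfl⟩ := hv
    exact ⟨σ g u, e1 g u⟩⟩
  obtain ⟨C, hC⟩ := exists_isCompl_subrep ρ R
  let E := Submodule.prodEquivOfIsCompl _ _ hC
  let π : V →ₗ[ℂ] (Fin n → ℂ) :=
    (LinearEquiv.ofInjective i1 hinj).symm.toLinearMap ∘ₗ (LinearMap.fst ℂ _ _ ∘ₗ E.symm.toLinearMap)
  have hπ : ∀ u (c : C.toSubmodule), π (i1 u + (c : V)) = u := fun u c => by
    show (LinearEquiv.ofInjective i1 hinj).symm (E.symm (i1 u + (c : V))).1 = u
    rw [show i1 u + (c : V) = E (⟨i1 u, ⟨u, rfl⟩⟩, c) from rfl, LinearEquiv.symm_apply_apply,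
      LinearEquiv.symm_apply_eq]
    rfl
  have hdec : ∀ v, ∃ u, ∃ c : C.toSubmodule, v = i1 u + (c : V) := fun v => by
    obtain ⟨⟨⟨_, u, rfl⟩, c⟩, h⟩ := E.surjective v
    exact ⟨u, c, h.symm⟩
  have hπeq : ∀ g v, π (ρ g v) = σ g (π v) := fun g v => by
    obtain ⟨u, c, rfl⟩ := hdec v
    rw [map_add, ← e1, show ρ g (c : V) = ((⟨_, C.apply_mem_toSubmodule g c.2⟩ : C.toSubmodule) : V) from rfl,
      hπ, hπ]
  obtain ⟨c, hc⟩ := schur_scalar σ (π ∘ₗ i2) fun g v => by
    show π (i2 (σ g v)) = σ g (π (i2 v))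
    rw [e2, hπeq]
  let j := i2 - c • i1
  have hj : π ∘ₗ j = 0 := by
    refine LinearMap.ext fun v => ?_
    have h1 : π (i1 v) = v := by simpa using hπ v 0
    have h2 : π (i2 v) = c • v := LinearMap.congr_fun hc v
    simp [j, map_sub, map_smul, h1, h2]
  have ej : ∀ g v, j (σ g v) = ρ g (j v) := fun g v => by
    simp [j, e1, e2, map_sub, map_smul]
  refine ⟨i1 ∘ₗ π, j ∘ₗ π, (mem_invariants_iff ρ ρ _).2 fun g v => ?_,
    (mem_invariants_iff ρ ρ _).2 fun g v => ?_, fun h => ?_⟩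
  · show i1 (π (ρ g v)) = ρ g (i1 (π v))
    rw [hπeq, e1]
  · show j (π (ρ g v)) = ρ g (j (π v))
    rw [hπeq, ej]
  · have hj0 : j = 0 := LinearMap.ext fun u => by
      have h3 := LinearMap.congr_fun h (i1 u)
      simp only [LinearMap.comp_apply] at h3
      rw [show π (i1 u) = u from by simpa using hπ u 0] at h3
      rw [show π (j u) = 0 from LinearMap.congr_fun hj u, map_zero,
        show π (i1 u) = u from by simpa using hπ u 0] at h3
      exact h3.symm
    exact hi2n (Submodule.mem_span_singleton.2 ⟨c, Subtype.ext (sub_eq_zero.1 hj0).symm⟩)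

theorem commute_iff_mult_le_one :
    (∀ S T : V →ₗ[ℂ] V, S ∈ (ρ.linHom ρ).invariants → T ∈ (ρ.linHom ρ).invariants →
      S ∘ₗ T = T ∘ₗ S) ↔ ∀ χ, mult ρ χ ≤ 1 := by
  refine ⟨fun h χ => ?_, fun h S T hS hT => commute_of_mult_le_one ρ h hS hT⟩
  by_contra hm
  obtain ⟨S, T, hS, hT, hne⟩ := exists_noncommuting ρ (χ := χ) (by omega)
  exact hne (h S T hS hT)

end Cfsg.Lib.PermGroups.Constituents
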