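import Mathlib

/-!
A strongly regular graph admitting a semiregular dihedral group of order `2 q`, `q` odd, with both
rotation orbits carrying the same circulant, is disconnected or has disconnected complement.
-/

set_option autoImplicit false

namespace Cfsg.Agent.DihedralSrg

attribute [-simp] zsmul_eq_mul nsmul_eq_mul natCast_zsmul zsmul_one

variable {q : ℕ} [NeZero q]

/-- the integral group ring of `ZMod q` -/
abbrev GR (q : ℕ) := AddMonoidAlgebra ℤ (ZMod q)

/-- the element with prescribed coefficients -/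
noncomputable def ofFun (f : ZMod q → ℤ) : GR q :=
  AddMonoidAlgebra.ofCoeff (Finsupp.equivFunOnFinite.symm f)

@[simp] theorem coeff_ofFun (f : ZMod q → ℤ) (x : ZMod q) : (ofFun f).coeff x = f x := rfl

theorem ext' {a b : GR q} (h : ∀ x, a.coeff x = b.coeff x) : a = b :=
  AddMonoidAlgebra.ext (Finsupp.ext h)

theorem coeff_mul' (a b : GR q) (z : ZMod q) :
    (a * b).coeff z = ∑ x, a.coeff x * b.coeff (z - x) := by
  classical
  rw [AddMonoidAlgebra.coeff_mul_apply_left,
    Finsupp.sum_fintype _ _ (fun _ => zero_mul _)]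
  exact Finset.sum_congr rfl fun x _ => by rw [neg_add_eq_sub]

/-- sum of the coefficients -/
def aug (a : GR q) : ℤ := ∑ x, a.coeff x

/-- the sum of all group elements -/
noncomputable def u (q : ℕ) [NeZero q] : GR q := ofFun fun _ => 1

/-- reversal -/
noncomputable def rev (a : GR q) : GR q := ofFun fun x => a.coeff (-x)

@[simp] theorem coeff_u (x : ZMod q) : (u q).coeff x = 1 := rfl

theorem coeff_one' (x : ZMod q) : (1 : GR q).coeff x = if x = 0 then 1 else 0 := by
  rw [AddMonoidAlgebra.one_def, AddMonoidAlgebra.coeff_single, Finsupp.single_apply]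
  simp only [eq_comm (a := (0 : ZMod q))]

@[simp] theorem coeff_smul' (c : ℤ) (a : GR q) (x : ZMod q) : (c • a).coeff x = c * a.coeff x := by
  rw [AddMonoidAlgebra.coeff_smul, Finsupp.smul_apply, smul_eq_mul]

theorem mul_u (a : GR q) : a * u q = aug a • u q :=
  ext' fun z => by rw [coeff_mul', coeff_smul']; simp [aug]

theorem aug_mul (a b : GR q) : aug (a * b) = aug a * aug b := by
  simp only [aug, coeff_mul']
  rw [Finset.sum_comm, Finset.sum_mul]
  refine Finset.sum_congr rfl fun x _ => ?_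
  rw [← Finset.mul_sum]
  congr 1
  exact Equiv.sum_comp (Equiv.subRight x) fun z => b.coeff z

theorem aug_u : aug (u q) = q := by simp [aug]

theorem aug_rev (a : GR q) : aug (rev a) = aug a := by
  simp only [aug, rev, coeff_ofFun]
  exact Equiv.sum_comp (Equiv.neg (ZMod q)) fun z => a.coeff z

/-- the sum of the coefficients over a fibre of multiplication by `r` -/
def fib (r : ℕ) (a : GR q) (z : ZMod q) : ℤ := ∑ y, if (r : ZMod q) * y = z then a.coeff y else 0

theorem pow_prime_fib {r : ℕ} (hr : r.Prime) (a : GR q) :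
    ∀ z, (r : ℤ) ∣ (a ^ r).coeff z - fib r a z := by
  induction a using AddMonoidAlgebra.induction_linear with
  | zero => intro z; simp [fib, zero_pow hr.ne_zero]
  | add f g hf hg =>
    intro z
    obtain ⟨d, hd⟩ := exists_add_pow_prime_eq hr f g
    have hfib : fib r (f + g) z = fib r f z + fib r g z := by
      simp only [fib, ← Finset.sum_add_distrib]
      exact Finset.sum_congr rfl fun y _ => by split_ifs <;> simp
    have hmul : ((r : GR q) * f * g * d).coeff z = (r : ℤ) * (f * g * d).coeff z := by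
      rw [mul_assoc, mul_assoc, ← nsmul_eq_mul, ← mul_assoc, ← natCast_zsmul, coeff_smul']
    rw [hfib, hd, AddMonoidAlgebra.coeff_add, AddMonoidAlgebra.coeff_add, Finsupp.add_apply,
      Finsupp.add_apply, hmul]
    have := (hf z).add ((hg z).add (dvd_mul_right (r : ℤ) ((f * g * d).coeff z)))
    exact this.trans (dvd_of_eq (by ring))
  | single y c =>
    intro z
    haveI := Fact.mk hr
    have hc : (r : ℤ) ∣ c ^ r - c := by
      rw [← ZMod.intCast_zmod_eq_zero_iff_dvd]
      push_cast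
      rw [ZMod.pow_card, sub_self]
    rw [AddMonoidAlgebra.single_pow, AddMonoidAlgebra.coeff_single, Finsupp.single_apply,
      nsmul_eq_mul]
    have hfib : fib r (AddMonoidAlgebra.single y c) z = if (r : ZMod q) * y = z then c else 0 := by
      rw [fib, Finset.sum_eq_single y]
      · simp
      · intro w _ hw
        simp [Finsupp.single_apply, Ne.symm hw]
      · simp
    rw [hfib]
    split_ifs <;> simp [hc]

theorem fib_fib (r s : ℕ) (a : GR q) (z : ZMod q) :
    fib r (ofFun (fib s a)) z = fib (r * s) a z := by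
  classical
  simp only [fib, coeff_ofFun]
  simp_rw [← Finset.sum_filter]
  rw [Finset.sum_filter, Finset.sum_filter]
  simp_rw [Finset.sum_filter]
  calc ∑ t, (if (r : ZMod q) * t = z then ∑ y, (if (s : ZMod q) * y = t then a.coeff y else 0)
        else 0)
      = ∑ t, ∑ y, if (s : ZMod q) * y = t then
          (if (r : ZMod q) * t = z then a.coeff y else 0) else 0 :=
        Finset.sum_congr rfl fun t _ => by
          split_ifs with h
          · rfl
          · simp
    _ = ∑ y, if ((r * s : ℕ) : ZMod q) * y = z then a.coeff y else 0 := by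
        rw [Finset.sum_comm]
        refine Finset.sum_congr rfl fun y _ => ?_
        rw [Finset.sum_ite_eq]
        simp [mul_assoc]

/-- the ring endomorphism induced by multiplication by `κ` -/
noncomputable def push (κ : ℕ) : GR q →+* GR q :=
  AddMonoidAlgebra.mapDomainRingHom ℤ (AddMonoidHom.mulLeft (κ : ZMod q))

theorem coeff_push (κ : ℕ) (a : GR q) : ∀ z, (push κ a).coeff z = fib κ a z := by
  induction a using AddMonoidAlgebra.induction_linear with
  | zero => intro z; simp [fib]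
  | add f g hf hg =>
    intro z
    rw [map_add, AddMonoidAlgebra.coeff_add, Finsupp.add_apply, hf, hg]
    simp only [fib, ← Finset.sum_add_distrib]
    exact Finset.sum_congr rfl fun y _ => by split_ifs <;> simp
  | single y c =>
    intro z
    rw [fib, Finset.sum_eq_single y]
    · simp [push, Finsupp.single_apply]
    · intro w _ hw
      simp [Finsupp.single_apply, Ne.symm hw]
    · simp

theorem fib_coprime {r : ℕ} (hr : Nat.Coprime r q) (a : GR q) (x : ZMod q) :
    fib r a ((r : ZMod q) * x) = a.coeff x := by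
  have hu : IsUnit (r : ZMod q) := ⟨ZMod.unitOfCoprime r hr, rfl⟩
  simp only [fib, hu.mul_right_inj]
  simp

theorem exists_eq_mul_of_mul_eq_zero {κ : ℕ} (hκ : κ ∣ q) {y : ZMod q}
    (hy : (κ : ZMod q) * y = 0) : ∃ i < κ, y = ((q / κ * i : ℕ) : ZMod q) := by
  obtain ⟨m, hm⟩ := hκ
  have hκ0 : 0 < κ := by
    rcases Nat.eq_zero_or_pos κ with h | h
    · exact absurd (by rw [hm, h, zero_mul]) (NeZero.ne q)
    · exact h
  have hm0 : 0 < m := by
    rcases Nat.eq_zero_or_pos m with h | h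
    · exact absurd (by rw [hm, h, mul_zero]) (NeZero.ne q)
    · exact h
  have hd : q / κ = m := by rw [hm, Nat.mul_div_cancel_left _ hκ0]
  have h1 : q ∣ κ * y.val := by
    rw [← ZMod.natCast_eq_zero_iff]
    push_cast
    rw [ZMod.natCast_zmod_val, hy]
  have h2 : m ∣ y.val := by
    have : κ * m ∣ κ * y.val := by rwa [← hm]
    exact Nat.dvd_of_mul_dvd_mul_left hκ0 this
  obtain ⟨i, hi⟩ := h2
  refine ⟨i, ?_, ?_⟩
  · by_contra h
    have h3 : m * κ ≤ m * i := Nat.mul_le_mul_left m (not_lt.1 h)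
    have := ZMod.val_lt y
    rw [mul_comm] at hm
    omega
  · rw [hd, ← hi, ZMod.natCast_zmod_val]

theorem card_ker {κ : ℕ} (hκ : κ ∣ q) (x : ZMod q) :
    (Finset.univ.filter fun y : ZMod q => (κ : ZMod q) * y = (κ : ZMod q) * x).card = κ := by
  classical
  obtain ⟨m, hm⟩ := id hκ
  have hκ0 : 0 < κ := by
    rcases Nat.eq_zero_or_pos κ with h | h
    · exact absurd (by rw [hm, h, zero_mul]) (NeZero.ne q)
    · exact h
  have hm0 : 0 < m := by
    rcases Nat.eq_zero_or_pos m with h | h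
    · exact absurd (by rw [hm, h, mul_zero]) (NeZero.ne q)
    · exact h
  have hd : q / κ = m := by rw [hm, Nat.mul_div_cancel_left _ hκ0]
  have himg : (Finset.univ.filter fun y : ZMod q => (κ : ZMod q) * y = (κ : ZMod q) * x) =
      (Finset.range κ).image fun i => x + ((m * i : ℕ) : ZMod q) := by
    ext y
    simp only [Finset.mem_filter, Finset.mem_univ, true_and, Finset.mem_image, Finset.mem_range]
    constructor
    · intro h
      obtain ⟨i, hi, h'⟩ := exists_eq_mul_of_mul_eq_zero hκ (y := y - x)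
        (by rw [mul_sub, h, sub_self])
      exact ⟨i, hi, by rw [← hd, ← h']; ring⟩
    · rintro ⟨i, _, rfl⟩
      rw [mul_add, add_eq_left, ← Nat.cast_mul, ← mul_assoc, ← hm]
      simp
  rw [himg, Finset.card_image_of_injOn, Finset.card_range]
  intro i hi j hj h
  have h' : ((m * i : ℕ) : ZMod q) = ((m * j : ℕ) : ZMod q) := add_left_cancel h
  have hlt : ∀ {l : ℕ}, l ∈ (Finset.range κ : Set ℕ) → m * l < q := fun {l} hl => by
    rw [hm, mul_comm κ m]
    exact Nat.mul_lt_mul_of_pos_left (Finset.mem_range.1 hl) hm0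
  have := congrArg ZMod.val h'
  rw [ZMod.val_cast_of_lt (hlt hi), ZMod.val_cast_of_lt (hlt hj)] at this
  exact Nat.eq_of_mul_eq_mul_left hm0 this

theorem eq_of_card_dvd_sum {ι : Type*} (s : Finset ι) (f : ι → ℤ)
    (h01 : ∀ i ∈ s, f i = 0 ∨ f i = 1) (hd : (s.card : ℤ) ∣ ∑ i ∈ s, f i) :
    ∀ i ∈ s, ∀ j ∈ s, f i = f j := by
  classical
  intro i hi j hj
  by_contra hne
  obtain ⟨a, b, ha, hb, hfa, hfb⟩ : ∃ a b, a ∈ s ∧ b ∈ s ∧ f a = 0 ∧ f b = 1 := by
    rcases h01 i hi with h | h <;> rcases h01 j hj with h' | h'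
    · exact absurd (h.trans h'.symm) hne
    · exact ⟨i, j, hi, hj, h, h'⟩
    · exact ⟨j, i, hj, hi, h', h⟩
    · exact absurd (h.trans h'.symm) hne
  have h1 : 0 < ∑ i ∈ s, f i :=
    Finset.sum_pos' (fun k hk => by rcases h01 k hk with h | h <;> omega) ⟨b, hb, by omega⟩
  have h2 : ∑ i ∈ s, f i < s.card := by
    have := Finset.sum_lt_sum (f := f) (g := fun _ => (1 : ℤ)) (s := s)
      (fun k hk => by rcases h01 k hk with h | h <;> omega) ⟨a, ha, by omega⟩
    simpa using this
  have := Int.le_of_dvd h1 hd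
  omega

/-- the equations to be refuted -/
structure Datum (q : ℕ) [NeZero q] where
  hq : Odd q
  hq3 : 3 ≤ q
  E : GR q
  C : GR q
  μ : ℤ
  H : ℤ
  hC : ∀ x, C.coeff x = 0 ∨ C.coeff x = 1
  hE : ∀ x, x ≠ 0 → E.coeff x = 0 ∨ E.coeff x = 1
  hEs : ∀ x, E.coeff (-x) = E.coeff x
  h1 : C * E = μ • u q
  h2 : E * E + C * rev C = H • 1 + (2 * μ) • u q
  hμ : μ ≠ 0
  hμ' : μ + q - aug C - aug E ≠ 0

namespace Datum

variable (D : Datum q)

/-- the complementary datum -/
noncomputable def compl : Datum q where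
  hq := D.hq
  hq3 := D.hq3
  E := u q - D.E
  C := u q - D.C
  μ := D.μ + q - aug D.C - aug D.E
  H := D.H
  hC x := by rcases D.hC x with h | h <;> simp [h]
  hE x hx := by rcases D.hE x hx with h | h <;> simp [h]
  hEs x := by simp [D.hEs]
  h1 := by
    calc (u q - D.C) * (u q - D.E)
        = u q * u q - D.C * u q - D.E * u q + D.C * D.E := by ring
      _ = _ := by
          rw [mul_u, mul_u, mul_u, D.h1, aug_u, ← sub_smul, ← sub_smul, ← add_smul]
          congr 1; ring
  h2 := by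
    have hr : rev (u q - D.C) = u q - rev D.C := ext' fun x => by simp [rev]
    rw [hr]
    calc (u q - D.E) * (u q - D.E) + (u q - D.C) * (u q - rev D.C)
        = u q * u q - D.E * u q - D.E * u q + u q * u q - D.C * u q - rev D.C * u q +
            (D.E * D.E + D.C * rev D.C) := by ring
      _ = _ := by
          rw [mul_u, mul_u, mul_u, mul_u, D.h2, aug_u, aug_rev]
          refine ext' fun x => ?_
          simp
          ring
  hμ := D.hμ'
  hμ' := by
    have hsub : ∀ a : GR q, aug (u q - a) = q - aug a := fun a => by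
      simp [aug, Finset.sum_sub_distrib]
    rw [hsub, hsub]
    convert D.hμ using 1
    ring

/-- `aug E - aug C` -/
def h : ℤ := aug D.E - aug D.C

theorem c_mul_ε : aug D.C * aug D.E = D.μ * q := by
  have := congrArg aug D.h1
  rw [aug_mul] at this
  rw [this]
  simp [aug, mul_comm]

theorem H_eq : D.H = D.h ^ 2 := by
  have := congrArg aug D.h2
  have e1 : aug (D.H • (1 : GR q) + (2 * D.μ) • u q) = D.H + 2 * D.μ * q := by
    simp [aug, Finset.sum_add_distrib, coeff_one']
    ring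
  have e2 : aug (D.E * D.E + D.C * rev D.C) = aug D.E * aug D.E + aug D.C * aug D.C := by
    conv_rhs => arg 2; arg 2; rw [← aug_rev D.C]
    rw [← aug_mul, ← aug_mul]
    simp [aug, Finset.sum_add_distrib]
  rw [e1, e2] at this
  have := D.c_mul_ε
  simp only [Datum.h]
  linarith [sq (aug D.E - aug D.C)]

theorem c_ne : aug D.C ≠ 0 := fun h => by
  have := D.c_mul_ε
  rw [h, zero_mul] at this
  exact mul_ne_zero D.hμ (by exact_mod_cast NeZero.ne q) this.symm

theorem ε_ne : aug D.E ≠ 0 := fun h => by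
  have := D.c_mul_ε
  rw [h, mul_zero] at this
  exact mul_ne_zero D.hμ (by exact_mod_cast NeZero.ne q) this.symm

theorem coeff_zero_eq :
    D.H + 2 * D.μ = D.E.coeff 0 ^ 2 - D.E.coeff 0 + aug D.E + aug D.C := by
  classical
  have := congrArg (fun a : GR q => a.coeff 0) D.h2
  simp only [AddMonoidAlgebra.coeff_add, Finsupp.add_apply, coeff_smul', coeff_one', if_true,
    coeff_u, mul_one, coeff_mul', zero_sub, rev, coeff_ofFun, neg_neg, D.hEs] at this
  rw [← this]
  have h1 : ∑ x, D.C.coeff x * D.C.coeff x = aug D.C :=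
    Finset.sum_congr rfl fun x _ => by rcases D.hC x with h | h <;> simp [h]
  have h2 : ∀ x, D.E.coeff x * D.E.coeff x =
      D.E.coeff x + if x = 0 then D.E.coeff 0 ^ 2 - D.E.coeff 0 else 0 := fun x => by
    split_ifs with hx
    · subst hx; ring
    · rcases D.hE x hx with h | h <;> simp [h]
  rw [h1, Finset.sum_congr rfl fun x _ => h2 x, Finset.sum_add_distrib]
  simp [aug]
  ring

theorem not_const_zero (h0 : ∀ x, x ≠ 0 → D.E.coeff x = 0) : False := by
  have hE : D.E = D.E.coeff 0 • (1 : GR q) := ext' fun x => by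
    rw [coeff_smul', coeff_one']
    split_ifs with hx
    · simp [hx]
    · simp [h0 x hx]
  have h := D.h1
  rw [hE, mul_smul_comm, mul_one] at h
  have hC : ∀ x, D.E.coeff 0 * D.C.coeff x = D.μ := fun x => by
    have := congrArg (fun a : GR q => a.coeff x) h
    simpa using this
  have hw : D.E.coeff 0 ≠ 0 := fun h' => D.hμ (by rw [← hC 0, h', zero_mul])
  have hC1 : ∀ x, D.C.coeff x = 1 := fun x => by
    rcases D.hC x with h' | h'
    · exact absurd (by rw [← hC x, h', mul_zero]) D.hμ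
    · exact h'
  apply D.hμ'
  have hc : aug D.C = q := by simp [aug, hC1]
  have hε : aug D.E = D.E.coeff 0 := by
    simp only [aug]
    exact Finset.sum_eq_single 0 (fun x _ hx => h0 x hx) (by simp)
  rw [hc, hε, ← hC 0, hC1]
  ring

theorem not_const (a : ℤ) (ha : ∀ x, x ≠ 0 → D.E.coeff x = a) : False := by
  have : Fact (1 < q) := ⟨by have := D.hq3; omega⟩
  rcases D.hE 1 one_ne_zero with h | h
  · exact D.not_const_zero fun x hx => by rw [ha x hx, ← ha 1 one_ne_zero, h]
  · refine D.compl.not_const_zero fun x hx => ?_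
    show (u q - D.E).coeff x = 0
    simp [ha x hx, ← ha 1 one_ne_zero, h]

theorem not_congr_const {r : ℕ} (hr : 2 ≤ r)
    (hc : ∀ x y, x ≠ 0 → y ≠ 0 → (r : ℤ) ∣ D.E.coeff x - D.E.coeff y) : False := by
  have : Fact (1 < q) := ⟨by have := D.hq3; omega⟩
  refine D.not_const (D.E.coeff 1) fun x hx => ?_
  obtain ⟨k, hk⟩ := hc x 1 hx one_ne_zero
  rcases D.hE x hx with h | h <;> rcases D.hE 1 one_ne_zero with h' | h' <;> rw [h, h'] at hk ⊢
  · exfalso
    have : (r : ℤ) ∣ 1 := ⟨-k, by rw [mul_neg, ← hk]; ring⟩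
    have := Int.le_of_dvd one_pos this
    omega
  · exfalso
    have : (r : ℤ) ∣ 1 := ⟨k, by rw [← hk]; ring⟩
    have := Int.le_of_dvd one_pos this
    omega

theorem cube : ∃ ν : ℤ, D.E * D.E * D.E = D.H • D.E + ν • u q := by
  refine ⟨D.μ * (2 * aug D.E - aug D.C), ?_⟩
  have h2 : D.E * D.E = D.H • 1 + (2 * D.μ) • u q - D.C * rev D.C := by rw [← D.h2]; abel
  calc D.E * D.E * D.E
      = (D.H • 1 + (2 * D.μ) • u q - D.C * rev D.C) * D.E := by rw [h2]
    _ = D.H • D.E + (2 * D.μ) • (D.E * u q) - rev D.C * (D.C * D.E) := by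
        rw [sub_mul, add_mul, smul_mul_assoc, one_mul, smul_mul_assoc, mul_comm (u q) D.E,
          mul_comm D.C (rev D.C), mul_assoc]
    _ = _ := by
        rw [D.h1, mul_smul_comm, mul_u, mul_u, aug_rev]
        refine ext' fun x => ?_
        simp
        ring

theorem odd_pow (j : ℕ) : ∃ κ : ℤ, D.E ^ (2 * j + 1) = D.H ^ j • D.E + κ • u q := by
  induction j with
  | zero => exact ⟨0, by simp⟩
  | succ j ih =>
    obtain ⟨κ, hκ⟩ := ih
    obtain ⟨ν, hν⟩ := D.cube
    refine ⟨D.H ^ j * ν + κ * (aug D.E * aug D.E), ?_⟩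
    rw [show 2 * (j + 1) + 1 = 2 + (2 * j + 1) by ring, pow_add, hκ, mul_add, mul_smul_comm,
      mul_smul_comm, mul_u, sq, hν, aug_mul]
    refine ext' fun x => ?_
    simp
    ring

theorem pow_prime {r : ℕ} (hr : r.Prime) (hr2 : r ≠ 2) :
    ∃ κ : ℤ, D.E ^ r = D.h ^ (r - 1) • D.E + κ • u q := by
  obtain ⟨j, hj⟩ := hr.odd_of_ne_two hr2
  obtain ⟨κ, hκ⟩ := D.odd_pow j
  refine ⟨κ, ?_⟩
  rw [hj, hκ, D.H_eq, ← pow_mul]
  simp

theorem not_dvd_h {r : ℕ} (hr : r.Prime) (hrq : Nat.Coprime r q) : ¬ (r : ℤ) ∣ D.h := by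
  intro hd
  by_cases h2 : r = 2
  · subst h2
    obtain ⟨ν, hν⟩ := D.cube
    have h4 : Nat.Coprime (2 * 2) q := Nat.Coprime.mul_left hrq hrq
    have key : ∀ x : ZMod q, (2 : ℤ) ∣ D.E.coeff x - ν * aug D.E := fun x => by
      have e1 := pow_prime_fib Nat.prime_two (D.E ^ 2) ((((2 * 2 : ℕ)) : ZMod q) * x)
      have e4 : (D.E ^ 2) ^ 2 = D.H • (D.E * D.E) + (ν * aug D.E) • u q := by
        calc (D.E ^ 2) ^ 2 = D.E * (D.E * D.E * D.E) := by ring
          _ = _ := by
              rw [hν, mul_add, mul_smul_comm, mul_smul_comm, mul_u, smul_smul]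
      rw [e4] at e1
      have e2 := pow_prime_fib Nat.prime_two D.E ((2 : ℕ) * x)
      rw [fib_coprime hrq] at e2
      have e3 : (((2 * 2 : ℕ)) : ZMod q) * x = (2 : ℕ) * ((2 : ℕ) * x) := by
        rw [Nat.cast_mul]; ring
      rw [e3, fib_coprime hrq] at e1
      simp only [AddMonoidAlgebra.coeff_add, Finsupp.add_apply, coeff_smul', coeff_u,
        mul_one] at e1
      have eH : (2 : ℤ) ∣ D.H := by rw [D.H_eq]; exact hd.pow two_ne_zero
      have e5 := (eH.mul_right ((D.E * D.E).coeff (((2 : ℕ) : ZMod q) * ((2 : ℕ) * x))))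
      push_cast at e1 e2 e5
      obtain ⟨a, ha⟩ := e1
      obtain ⟨b, hb⟩ := e2
      obtain ⟨c, hc⟩ := e5
      exact ⟨c - a - b, by linarith⟩
    exact D.not_congr_const (r := 2) le_rfl fun x y _ _ => by
      have := (key x).sub (key y)
      simpa using this
  · obtain ⟨κ, hκ⟩ := D.pow_prime hr h2
    have key : ∀ x : ZMod q, (r : ℤ) ∣ D.E.coeff x - κ := fun x => by
      have e1 := pow_prime_fib hr D.E ((r : ZMod q) * x)
      rw [fib_coprime hrq, hκ] at e1
      simp only [AddMonoidAlgebra.coeff_add, Finsupp.add_apply, coeff_smul', coeff_u,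
        mul_one] at e1
      have e2 : (r : ℤ) ∣ D.h ^ (r - 1) * D.E.coeff ((r : ZMod q) * x) :=
        (hd.pow (by have := hr.two_le; omega)).mul_right _
      have := e2.sub e1
      exact this.trans (dvd_of_eq (by ring))
    exact D.not_congr_const hr.two_le fun x y _ _ => by
      have := (key x).sub (key y)
      simpa using this

theorem h_ne : D.h ≠ 0 := fun h =>
  D.not_dvd_h Nat.prime_two (Nat.coprime_two_left.2 D.hq) (h ▸ dvd_zero _)

theorem dvd_q_of_dvd_h {r : ℕ} (hr : r.Prime) (hd : (r : ℤ) ∣ D.h) : r ∣ q := by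
  by_contra h
  exact D.not_dvd_h hr (hr.coprime_iff_not_dvd.2 h) hd

theorem rational_prime {r : ℕ} (hr : r.Prime) (hr2 : r ≠ 2) (hrq : Nat.Coprime r q)
    (x : ZMod q) : D.E.coeff ((r : ZMod q) * x) = D.E.coeff x := by
  haveI := Fact.mk hr
  obtain ⟨κ, hκ⟩ := D.pow_prime hr hr2
  have hh : (r : ℤ) ∣ D.h ^ (r - 1) - 1 := by
    rw [← ZMod.intCast_zmod_eq_zero_iff_dvd]
    push_cast
    rw [ZMod.pow_card_sub_one_eq_one, sub_self]
    rw [Ne, ZMod.intCast_zmod_eq_zero_iff_dvd]
    exact D.not_dvd_h hr hrq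
  have key : ∀ y, (r : ℤ) ∣ D.E.coeff ((r : ZMod q) * y) + κ - D.E.coeff y := fun y => by
    have e1 := pow_prime_fib hr D.E ((r : ZMod q) * y)
    rw [fib_coprime hrq, hκ] at e1
    simp only [AddMonoidAlgebra.coeff_add, Finsupp.add_apply, coeff_smul', coeff_u, mul_one] at e1
    have := e1.sub (hh.mul_right (D.E.coeff ((r : ZMod q) * y)))
    exact this.trans (dvd_of_eq (by ring))
  have h0 := key 0
  rw [mul_zero, add_sub_cancel_left] at h0
  have hx := (key x).sub h0
  rw [show D.E.coeff ((r : ZMod q) * x) + κ - D.E.coeff x - κ =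
    D.E.coeff ((r : ZMod q) * x) - D.E.coeff x by ring] at hx
  have hu : IsUnit (r : ZMod q) := ⟨ZMod.unitOfCoprime r hrq, rfl⟩
  by_cases hx0 : x = 0
  · simp [hx0]
  have hrx : (r : ZMod q) * x ≠ 0 := fun h => hx0 (hu.mul_right_eq_zero.1 h)
  have h2 := hr.two_le
  obtain ⟨k, hk⟩ := hx
  rcases D.hE _ hrx with h | h <;> rcases D.hE _ hx0 with h' | h' <;> rw [h, h'] at hk ⊢
  · exfalso
    have : (r : ℤ) ∣ 1 := ⟨-k, by rw [mul_neg, ← hk]; ring⟩
    have := Int.le_of_dvd one_pos this
    omega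
  · exfalso
    have : (r : ℤ) ∣ 1 := ⟨k, by rw [← hk]; ring⟩
    have := Int.le_of_dvd one_pos this
    omega

theorem rational_nat (m : ℕ) : Odd m → Nat.Coprime m q →
    ∀ x : ZMod q, D.E.coeff ((m : ZMod q) * x) = D.E.coeff x := by
  induction m using induction_on_primes with
  | zero => intro h; exact absurd h (by decide)
  | one => intros; simp
  | prime_mul r a hr ih =>
    intro hodd hco x
    have h2 : r ≠ 2 := fun h => by
      rw [Nat.odd_mul, h] at hodd; exact absurd hodd.1 (by decide)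
    rw [Nat.cast_mul, mul_assoc, D.rational_prime hr h2 (Nat.Coprime.coprime_dvd_left
      (dvd_mul_right r a) hco), ih (Nat.odd_mul.1 hodd).2 (Nat.Coprime.coprime_dvd_left
      (dvd_mul_left a r) hco)]

theorem rational {U : ZMod q} (hU : IsUnit U) (x : ZMod q) : D.E.coeff (U * x) = D.E.coeff x := by
  obtain ⟨U, rfl⟩ := hU
  have hco := ZMod.val_coe_unit_coprime U
  rcases Nat.even_or_odd (U : ZMod q).val with he | ho
  · have h1 : Nat.Coprime ((U : ZMod q).val + q) q := by simpa using hco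
    have := D.rational_nat _ (he.add_odd D.hq) h1 x
    simpa using this
  · simpa using D.rational_nat _ ho hco x

/-- `E` is a union of cosets of the kernel of multiplication by `κ` -/
def Periodic (κ : ℕ) : Prop :=
  ∀ x y : ZMod q, (κ : ZMod q) * y = 0 → D.E.coeff (x + y) = D.E.coeff x

/-- `E` is constant on the non-multiples of `p` -/
def CaseA (p : ℕ) : Prop :=
  ∃ a, ∀ x : ZMod q, (¬∃ y, (p : ZMod q) * y = x) → D.E.coeff x = a

theorem periodic_one : D.Periodic 1 := fun x y hy => by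
  rw [Nat.cast_one, one_mul] at hy
  rw [hy, add_zero]

theorem zero_one_of_periodic {κ : ℕ} (hκ : κ ∣ q) (h2 : 2 ≤ κ) (hper : D.Periodic κ)
    (x : ZMod q) : D.E.coeff x = 0 ∨ D.E.coeff x = 1 := by
  by_cases hx : x = 0
  · subst hx
    obtain ⟨m, hm⟩ := hκ
    have hm0 : 0 < m := by
      rcases Nat.eq_zero_or_pos m with h | h
      · exact absurd (by rw [hm, h, mul_zero]) (NeZero.ne q)
      · exact h
    have hz : ((m : ℕ) : ZMod q) ≠ 0 := by
      rw [Ne, ZMod.natCast_eq_zero_iff]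
      intro h
      have := Nat.le_of_dvd hm0 h
      nlinarith
    rw [← hper 0 (m : ZMod q) (by rw [← Nat.cast_mul, ← hm, ZMod.natCast_self]), zero_add]
    exact D.hE _ hz
  · exact D.hE x hx

theorem not_exists_mul_eq_one {p : ℕ} (hp : p.Prime) (hpq : p ∣ q) :
    ¬∃ y : ZMod q, (p : ZMod q) * y = 1 := by
  rintro ⟨y, hy⟩
  have := congrArg (ZMod.castHom hpq (ZMod p)) hy
  rw [map_mul, map_natCast, ZMod.natCast_self, zero_mul, map_one] at this
  have : Fact (1 < p) := ⟨hp.one_lt⟩
  exact zero_ne_one ‹(0 : ZMod p) = 1›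

theorem step {p κ : ℕ} (hp : p.Prime) (hpκ : κ * p ∣ q) (hκh : (κ : ℤ) ∣ D.h)
    (hper : D.Periodic κ) :
    (¬ ((κ * p : ℕ) : ℤ) ∣ D.h → D.CaseA p) ∧
      (((κ * p : ℕ) : ℤ) ∣ D.h →
        ∀ x : ZMod q, ((κ * p : ℕ) : ℤ) ∣ fib (κ * p) D.E (((κ * p : ℕ) : ZMod q) * x)) := by
  classical
  have hκq : κ ∣ q := (dvd_mul_right κ p).trans hpκ
  have hpq : p ∣ q := (dvd_mul_left p κ).trans hpκ
  have hκ0 : 0 < κ := Nat.pos_of_dvd_of_pos hκq (Nat.pos_of_ne_zero (NeZero.ne q))
  have hp2 : p ≠ 2 := fun h => by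
    subst h
    exact (Nat.not_even_iff_odd.2 D.hq) (even_iff_two_dvd.2 hpq)
  obtain ⟨h1, hh1⟩ := hκh
  obtain ⟨κ', hκ'⟩ := D.pow_prime hp hp2
  have hfibκ : ∀ x, fib κ D.E ((κ : ZMod q) * x) = κ * D.E.coeff x := fun x => by
    simp only [fib]
    rw [← Finset.sum_filter]
    have : ∀ y ∈ Finset.univ.filter (fun y => (κ : ZMod q) * y = (κ : ZMod q) * x),
        D.E.coeff y = D.E.coeff x := fun y hy => by
      rw [← hper x (y - x) (by rw [mul_sub, (Finset.mem_filter.1 hy).2, sub_self]),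
        add_sub_cancel]
    rw [Finset.sum_congr rfl this, Finset.sum_const, card_ker hκq, nsmul_eq_mul]
  have hdvd : ∀ z, (κ : ℤ) ∣ fib κ D.E z := fun z => by
    by_cases hz : ∃ x, (κ : ZMod q) * x = z
    · obtain ⟨x, rfl⟩ := hz
      exact ⟨_, hfibκ x⟩
    · simp only [fib]
      rw [Finset.sum_eq_zero]
      · exact dvd_zero _
      · intro y _
        rw [if_neg fun h => hz ⟨y, h⟩]
  choose Yf hYf using hdvd
  set Y := ofFun Yf with hY
  have hκZ : (κ : ℤ) ≠ 0 := by exact_mod_cast hκ0.ne'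
  have hpush : push κ D.E = (κ : ℤ) • Y := ext' fun z => by
    rw [coeff_push, coeff_smul', hY, coeff_ofFun, hYf]
  have hYE : ∀ x, Yf ((κ : ZMod q) * x) = D.E.coeff x := fun x =>
    mul_left_cancel₀ hκZ ((hYf _).symm.trans (hfibκ x))
  have hu : ∀ x, (push κ (u q)).coeff ((κ : ZMod q) * x) = κ := fun x => by
    rw [coeff_push]
    simp only [fib, coeff_u]
    rw [← Finset.sum_filter, Finset.sum_const, card_ker hκq]
    simp
  have hF : ∀ x, (κ : ℤ) ^ p * ((Y ^ p).coeff ((κ : ZMod q) * x) - h1 ^ (p - 1) * D.E.coeff x) =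
      κ' * κ := fun x => by
    have := congrArg (fun a => (push κ a).coeff ((κ : ZMod q) * x)) hκ'
    simp only [map_pow, map_add, map_zsmul, hpush, smul_pow, AddMonoidAlgebra.coeff_add,
      Finsupp.add_apply, coeff_smul', hu, hY, coeff_ofFun, hYE, hh1, mul_pow] at this
    have hpow : (κ : ℤ) ^ p = (κ : ℤ) ^ (p - 1) * κ := by
      rw [← pow_succ, Nat.sub_add_cancel hp.one_le]
    rw [← hY] at this
    rw [mul_sub, this, hpow]
    ring
  set F0 := (Y ^ p).coeff ((κ : ZMod q) * 0) - h1 ^ (p - 1) * D.E.coeff 0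
  have hF0 : ∀ x, (Y ^ p).coeff ((κ : ZMod q) * x) - h1 ^ (p - 1) * D.E.coeff x = F0 := fun x =>
    mul_left_cancel₀ (pow_ne_zero p hκZ) ((hF x).trans (hF 0).symm)
  have hG : ∀ x, (κ : ℤ) * fib p Y ((κ : ZMod q) * x) = fib (κ * p) D.E ((κ : ZMod q) * x) := by
    intro x
    rw [mul_comm κ p, ← fib_fib]
    simp only [fib, Finset.mul_sum, mul_ite, mul_zero]
    exact Finset.sum_congr rfl fun y _ => by
      rw [hY, coeff_ofFun, coeff_ofFun, ← hYf]
  have key : ∀ x, (p : ℤ) ∣ F0 + h1 ^ (p - 1) * D.E.coeff x - fib p Y ((κ : ZMod q) * x) :=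
    fun x => by
      rw [← hF0 x, sub_add_cancel]
      exact pow_prime_fib hp Y _
  have hnm : ∀ x : ZMod q, (¬∃ y, (p : ZMod q) * y = x) → fib p Y ((κ : ZMod q) * x) = 0 := by
    intro x hx
    have h0 : fib (κ * p) D.E ((κ : ZMod q) * x) = 0 := by
      simp only [fib]
      refine Finset.sum_eq_zero fun y _ => if_neg fun hy => hx ?_
      obtain ⟨i, -, hi⟩ := exists_eq_mul_of_mul_eq_zero hκq (y := x - (p : ZMod q) * y)
        (by rw [mul_sub, ← mul_assoc, ← Nat.cast_mul, hy, sub_self])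
      obtain ⟨m, hm⟩ := hpκ
      have hd : q / κ = p * m := by rw [hm, mul_assoc, Nat.mul_div_cancel_left _ hκ0]
      rw [hd] at hi
      exact ⟨y + ((m * i : ℕ) : ZMod q), by
        rw [mul_add, ← Nat.cast_mul, ← mul_assoc, ← hi, add_sub_cancel]⟩
    have := hG x
    rw [h0] at this
    exact (mul_eq_zero.1 this).resolve_left hκZ
  haveI := Fact.mk hp
  have hiff : ((κ * p : ℕ) : ℤ) ∣ D.h ↔ (p : ℤ) ∣ h1 := by
    rw [hh1, Nat.cast_mul, mul_dvd_mul_iff_left hκZ]
  refine ⟨fun hn => ?_, fun hd => ?_⟩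
  swap
  · have hh := hiff.1 hd
    have hpd : (p : ℤ) ∣ h1 ^ (p - 1) := hh.pow (by have := hp.two_le; omega)
    have h0 : (p : ℤ) ∣ F0 := by
      have := key 1
      rw [hnm 1 (not_exists_mul_eq_one hp hpq), sub_zero] at this
      exact (dvd_add_left (hpd.mul_right _)).1 this
    intro x
    have hp' : (p : ℤ) ∣ fib p Y ((κ : ZMod q) * ((p : ZMod q) * x)) := by
      have := (dvd_add h0 (hpd.mul_right (D.E.coeff ((p : ZMod q) * x)))).sub
        (key ((p : ZMod q) * x))
      simpa using this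
    rw [Nat.cast_mul, Nat.cast_mul, mul_assoc, ← hG]
    exact mul_dvd_mul_left _ hp'
  · have hh := fun h => hn (hiff.2 h)
    have hh' : (p : ℤ) ∣ h1 ^ (p - 1) - 1 := by
      rw [← ZMod.intCast_zmod_eq_zero_iff_dvd]
      push_cast
      rw [ZMod.pow_card_sub_one_eq_one, sub_self]
      rwa [Ne, ZMod.intCast_zmod_eq_zero_iff_dvd]
    refine ⟨D.E.coeff 1, fun x hx => ?_⟩
    have h1' := not_exists_mul_eq_one hp hpq
    have ex : ∀ z, (¬∃ y, (p : ZMod q) * y = z) → (p : ℤ) ∣ F0 + D.E.coeff z := fun z hz => by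
      have := key z
      rw [hnm z hz, sub_zero] at this
      have := this.sub (hh'.mul_right (D.E.coeff z))
      exact this.trans (dvd_of_eq (by ring))
    have hne : ∀ z, (¬∃ y, (p : ZMod q) * y = z) → z ≠ 0 := fun z hz h =>
      hz ⟨0, by rw [h, mul_zero]⟩
    obtain ⟨k, hk⟩ := (ex x hx).sub (ex 1 h1')
    have h2 := hp.two_le
    rcases D.hE x (hne x hx) with h | h <;> rcases D.hE 1 (hne 1 h1') with h' | h' <;>
      rw [h, h'] at hk ⊢
    · exfalso
      have : (p : ℤ) ∣ 1 := ⟨-k, by rw [mul_neg, ← hk]; ring⟩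
      have := Int.le_of_dvd one_pos this
      omega
    · exfalso
      have : (p : ℤ) ∣ 1 := ⟨k, by rw [← hk]; ring⟩
      have := Int.le_of_dvd one_pos this
      omega

/-- no vanishing of `E` on a subgroup of prime order away from `0`, unless at `0` too -/
theorem no_twins {p : ℕ}
    (hper : ∀ x y : ZMod q, (p : ZMod q) * x ≠ 0 → (p : ZMod q) * y = 0 →
      D.E.coeff (x + y) = D.E.coeff x)
    (hzero : ∀ y : ZMod q, (p : ZMod q) * y = 0 → y ≠ 0 → D.E.coeff y = 0)
    {z : ZMod q} (hz : (p : ZMod q) * z = 0) (hz0 : z ≠ 0) : D.E.coeff 0 = 0 := by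
  classical
  by_contra hw
  set Δ : GR q := 1 - AddMonoidAlgebra.single z 1 with hΔ
  have hmulΔ : ∀ (a : GR q) x, (a * Δ).coeff x = a.coeff x - a.coeff (x - z) := fun a x => by
    rw [hΔ, mul_sub, mul_one, AddMonoidAlgebra.coeff_sub, Finsupp.sub_apply,
      AddMonoidAlgebra.coeff_mul_single_apply, mul_one, sub_eq_add_neg x z]
  have hΔx : ∀ x, Δ.coeff x = (if x = 0 then 1 else 0) - if x = z then 1 else 0 := fun x => by
    rw [hΔ, AddMonoidAlgebra.coeff_sub, Finsupp.sub_apply, coeff_one',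
      AddMonoidAlgebra.coeff_single, Finsupp.single_apply]
    simp only [eq_comm (a := z)]
  have hEΔ : D.E * Δ = D.E.coeff 0 • Δ := ext' fun x => by
    rw [hmulΔ, coeff_smul', hΔx]
    by_cases h0 : x = 0
    · subst h0
      rw [zero_sub, D.hEs, hzero z hz hz0, if_pos rfl, if_neg (Ne.symm hz0)]
      ring
    by_cases hxz : x = z
    · subst hxz
      rw [sub_self, hzero x hz h0, if_neg h0, if_pos rfl]
      ring
    rw [if_neg h0, if_neg hxz, sub_zero, mul_zero, sub_eq_zero]
    by_cases hpx : (p : ZMod q) * x = 0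
    · rw [hzero x hpx h0, hzero (x - z) (by rw [mul_sub, hpx, hz, sub_zero])
        (sub_ne_zero.2 hxz)]
    · rw [sub_eq_add_neg, hper x (-z) hpx (by rw [mul_neg, hz, neg_zero])]
  have huΔ : u q * Δ = 0 := ext' fun x => by simp [hmulΔ]
  have hCΔ : D.C * Δ = 0 := ext' fun x => by
    have h := congrArg (fun a => (a * Δ).coeff x) D.h1
    simp only [mul_assoc, hEΔ, mul_smul_comm, smul_mul_assoc, huΔ, coeff_smul',
      AddMonoidAlgebra.coeff_zero, Finsupp.coe_zero, Pi.zero_apply, mul_zero] at h ⊢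
    exact (mul_eq_zero.1 h).resolve_left hw
  have hH : D.E.coeff 0 ^ 2 = D.H := by
    have h := congrArg (fun a => (a * Δ).coeff 0) D.h2
    rw [mul_comm D.C (rev D.C)] at h
    simp only [add_mul, mul_assoc, hEΔ, hCΔ, mul_smul_comm, smul_mul_assoc, huΔ, one_mul,
      smul_smul, mul_zero, smul_zero, add_zero] at h
    simp only [coeff_smul', hΔx, if_true, if_neg (Ne.symm hz0), sub_zero, mul_one] at h
    rw [sq]; exact h
  have h0 := D.coeff_zero_eq
  have hcε := D.c_mul_ε
  have hsq : D.E.coeff 0 ^ 2 = D.h ^ 2 := hH.trans D.H_eq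
  have hq0 : (q : ℤ) ≠ 0 := by exact_mod_cast NeZero.ne q
  rcases sq_eq_sq_iff_eq_or_eq_neg.1 hsq with hs | hs <;> simp only [Datum.h] at hs
  · have hμc : D.μ = aug D.C := by linarith
    rw [hμc] at hcε
    have := mul_left_cancel₀ D.c_ne hcε
    exact D.hμ' (by linarith)
  · have hμε : D.μ = aug D.E := by linarith
    rw [hμε, mul_comm] at hcε
    have := mul_left_cancel₀ D.ε_ne hcε
    exact D.hμ' (by linarith)

theorem periodic_step {p κ : ℕ} (hp : p.Prime) (hpκ : κ * p ∣ q) (hκh : (κ : ℤ) ∣ D.h)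
    (hper : D.Periodic κ) :
    (¬ ((κ * p : ℕ) : ℤ) ∣ D.h → D.CaseA p) ∧
      (((κ * p : ℕ) : ℤ) ∣ D.h → D.Periodic (κ * p)) := by
  classical
  obtain ⟨hA, hsum'⟩ := D.step hp hpκ hκh hper
  refine ⟨hA, fun hdh => ?_⟩
  have hsum := hsum' hdh
  have hκq : κ ∣ q := (dvd_mul_right κ p).trans hpκ
  have hκ0 : 0 < κ := Nat.pos_of_dvd_of_pos hκq (Nat.pos_of_ne_zero (NeZero.ne q))
  have hgood : ∀ x : ZMod q,
      (∀ v, ((κ * p : ℕ) : ZMod q) * v = ((κ * p : ℕ) : ZMod q) * x →
        D.E.coeff v = 0 ∨ D.E.coeff v = 1) →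
      ∀ y, ((κ * p : ℕ) : ZMod q) * y = 0 → D.E.coeff (x + y) = D.E.coeff x := by
    intro x h01 y hy
    have h := hsum x
    simp only [fib] at h
    rw [← Finset.sum_filter] at h
    refine eq_of_card_dvd_sum _ (fun v => D.E.coeff v)
      (fun v hv => h01 v (Finset.mem_filter.1 hv).2) (by rwa [card_ker hpκ x]) _ ?_ _ ?_
    · simpa [mul_add] using hy
    · simp
  by_cases hκ1 : 2 ≤ κ
  · exact fun x => hgood x fun v _ => D.zero_one_of_periodic hκq hκ1 hper v
  obtain rfl : κ = 1 := by omega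
  simp only [one_mul] at hpκ hgood ⊢
  have hoff : ∀ x y : ZMod q, (p : ZMod q) * x ≠ 0 → (p : ZMod q) * y = 0 →
      D.E.coeff (x + y) = D.E.coeff x := fun x y hx =>
    hgood x (fun v hv => D.hE v fun h => hx (by rw [← hv, h, mul_zero])) y
  haveI := Fact.mk hp
  have hconst : ∀ y z : ZMod q, (p : ZMod q) * y = 0 → (p : ZMod q) * z = 0 → y ≠ 0 → z ≠ 0 →
      D.E.coeff z = D.E.coeff y := by
    intro y z hy hz hy0 hz0
    obtain ⟨i, hi, hyi⟩ := exists_eq_mul_of_mul_eq_zero hpκ hy
    obtain ⟨j, hj, hzj⟩ := exists_eq_mul_of_mul_eq_zero hpκ hz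
    have hi0 : (i : ZMod p) ≠ 0 := by
      rw [Ne, ZMod.natCast_eq_zero_iff]
      intro h
      rcases Nat.eq_zero_or_pos i with h0 | h0
      · subst h0; simp at hyi; exact hy0 hyi
      · have := Nat.le_of_dvd h0 h; omega
    have hj0 : (j : ZMod p) ≠ 0 := by
      rw [Ne, ZMod.natCast_eq_zero_iff]
      intro h
      rcases Nat.eq_zero_or_pos j with h0 | h0
      · subst h0; simp at hzj; exact hz0 hzj
      · have := Nat.le_of_dvd h0 h; omega
    obtain ⟨U, hU⟩ := ZMod.unitsMap_surjective (m := q) hpκ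
      (Units.mk0 ((j : ZMod p) / i) (div_ne_zero hj0 hi0))
    have hU' : ZMod.castHom hpκ (ZMod p) (U : ZMod q) = (j : ZMod p) / i := by
      have := congrArg Units.val hU
      simpa [ZMod.unitsMap] using this
    have hz' : z = (U : ZMod q) * y := by
      have h1 : ZMod.castHom hpκ (ZMod p) ((U : ZMod q) * (i : ZMod q) - (j : ZMod q)) = 0 := by
        rw [map_sub, map_mul, hU', map_natCast, map_natCast, div_mul_cancel₀ _ hi0, sub_self]
      have h2 : p ∣ ((U : ZMod q) * (i : ZMod q) - (j : ZMod q)).val := by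
        rw [← ZMod.natCast_eq_zero_iff]
        rw [← h1, ← map_natCast (ZMod.castHom hpκ (ZMod p)), ZMod.natCast_zmod_val]
      obtain ⟨k, hk⟩ := h2
      have h3 : ((q / p : ℕ) : ZMod q) * ((U : ZMod q) * (i : ZMod q) - (j : ZMod q)) = 0 := by
        rw [← ZMod.natCast_zmod_val ((U : ZMod q) * (i : ZMod q) - (j : ZMod q)), hk,
          ← Nat.cast_mul, ← mul_assoc, Nat.div_mul_cancel hpκ]
        simp
      rw [hyi, hzj, Nat.cast_mul, Nat.cast_mul]
      rw [mul_sub, sub_eq_zero] at h3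
      rw [← h3]; ring
    rw [hz']
    exact D.rational ⟨U, rfl⟩ y
  obtain ⟨m, hm⟩ := id hpκ
  have hm0 : 0 < m := by
    rcases Nat.eq_zero_or_pos m with h | h
    · exact absurd (by rw [hm, h, mul_zero]) (NeZero.ne q)
    · exact h
  have hz : (p : ZMod q) * (m : ZMod q) = 0 := by rw [← Nat.cast_mul, ← hm, ZMod.natCast_self]
  have hz0 : (m : ZMod q) ≠ 0 := by
    rw [Ne, ZMod.natCast_eq_zero_iff]
    intro h
    have := Nat.le_of_dvd hm0 h
    have := hp.two_le
    nlinarith
  have hw : D.E.coeff 0 = D.E.coeff (m : ZMod q) := by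
    rcases D.hE _ hz0 with h | h
    · rw [h]
      exact D.no_twins hoff (fun y hy hy0 => (hconst _ y hz hy hz0 hy0).trans h) hz hz0
    · rw [h]
      have := D.compl.no_twins (p := p)
        (fun x y hx hy => by
          show (u q - D.E).coeff (x + y) = (u q - D.E).coeff x
          simp [hoff x y hx hy])
        (fun y hy hy0 => by
          show (u q - D.E).coeff y = 0
          simp [(hconst _ y hz hy hz0 hy0).trans h]) hz hz0
      simp only [Datum.compl, AddMonoidAlgebra.coeff_sub, Finsupp.sub_apply, coeff_u] at this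
      linarith
  intro x y hy
  by_cases hx : (p : ZMod q) * x = 0
  · have hall : ∀ v : ZMod q, (p : ZMod q) * v = 0 → D.E.coeff v = D.E.coeff (m : ZMod q) := by
      intro v hv
      by_cases hv0 : v = 0
      · rw [hv0, hw]
      · exact hconst _ v hz hv hz0 hv0
    rw [hall _ (by rw [mul_add, hx, hy, add_zero]), hall x hx]
  · exact hoff x y hx hy

theorem caseA_zero {p : ℕ} (hp : p.Prime) (hpq : p ∣ q)
    (hA : ∀ x : ZMod q, (¬∃ y, (p : ZMod q) * y = x) → D.E.coeff x = 0) :
    D.h ^ 2 = aug D.E ^ 2 ∧ aug D.C = 2 * aug D.E := by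
  classical
  set W : GR q := ofFun fun x => if ∃ y, (p : ZMod q) * y = x then 1 else 0 with hW
  have hEW : D.E * W = aug D.E • W := ext' fun x => by
    rw [coeff_mul', coeff_smul', aug, Finset.sum_mul]
    refine Finset.sum_congr rfl fun y _ => ?_
    by_cases hy : ∃ t, (p : ZMod q) * t = y
    · obtain ⟨t, rfl⟩ := hy
      congr 1
      simp only [hW, coeff_ofFun]
      refine if_congr ⟨?_, ?_⟩ rfl rfl
      · rintro ⟨s, hs⟩; exact ⟨s + t, by rw [mul_add, hs, sub_add_cancel]⟩
      · rintro ⟨s, rfl⟩; exact ⟨s - t, by rw [mul_sub]⟩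
    · rw [hA y hy, zero_mul, zero_mul]
  have hCW : ∀ x, aug D.E * (D.C * W).coeff x = D.μ * aug W := fun x => by
    have h := congrArg (fun a => (a * W).coeff x) D.h1
    simp only [mul_assoc, hEW, mul_smul_comm, smul_mul_assoc, mul_comm (u q) W, mul_u,
      coeff_smul', coeff_u, mul_one] at h
    exact h
  have hconst : D.C * W = (D.C * W).coeff 0 • u q := ext' fun x => by
    rw [coeff_smul', coeff_u, mul_one]
    exact mul_left_cancel₀ D.ε_ne ((hCW x).trans (hCW 0).symm)
  set v := (D.C * W).coeff 0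
  have hh : ∀ x, aug D.E ^ 2 * W.coeff x + v * aug D.C = D.H * W.coeff x + 2 * D.μ * aug W :=
    fun x => by
    have h := congrArg (fun a => (a * W).coeff x) D.h2
    rw [mul_comm D.C (rev D.C)] at h
    simp only [add_mul, mul_assoc, hEW, hconst, mul_smul_comm, smul_mul_assoc,
      mul_comm (u q) W, mul_u, one_mul, aug_rev, smul_smul, AddMonoidAlgebra.coeff_add,
      Finsupp.add_apply, coeff_smul', coeff_u, mul_one] at h
    rw [sq, mul_assoc]
    linarith
  have h0 := hh 0
  have h1 := hh 1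
  have hW0 : W.coeff 0 = 1 := by
    rw [hW, coeff_ofFun, if_pos ⟨0, mul_zero _⟩]
  have hW1 : W.coeff 1 = 0 := by
    rw [hW, coeff_ofFun, if_neg (not_exists_mul_eq_one hp hpq)]
  rw [hW0] at h0
  rw [hW1] at h1
  have hH : D.h ^ 2 = aug D.E ^ 2 := by rw [← D.H_eq]; linarith
  refine ⟨hH, ?_⟩
  rcases sq_eq_sq_iff_eq_or_eq_neg.1 hH with h | h <;> simp only [Datum.h] at h
  · exact absurd (by linarith) D.c_ne
  · linarith

theorem w_or_h : (D.E.coeff 0 = 0 ∨ D.E.coeff 0 = 1) ∨ D.h.natAbs = 1 := by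
  by_cases h1 : D.h.natAbs = 1
  · exact .inr h1
  left
  obtain ⟨r, hr, hd⟩ := Nat.exists_prime_and_dvd h1
  have hdh : (r : ℤ) ∣ D.h := Int.natCast_dvd.2 hd
  have hrq := D.dvd_q_of_dvd_h hr hdh
  have h := (D.periodic_step (κ := 1) hr (by rwa [one_mul]) (by simp) D.periodic_one).2
    (by rwa [one_mul])
  exact D.zero_one_of_periodic hrq hr.two_le (by simpa using h) 0

theorem not_caseA_zero {p : ℕ} (hp : p.Prime) (hpq : p ∣ q)
    (hA : ∀ x : ZMod q, (¬∃ y, (p : ZMod q) * y = x) → D.E.coeff x = 0) : False := by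
  obtain ⟨hH, hc⟩ := D.caseA_zero hp hpq hA
  have hcε := D.c_mul_ε
  have h0 := D.coeff_zero_eq
  rw [D.H_eq, hH] at h0
  rw [hc] at hcε h0
  have hq3 : (3 : ℤ) ≤ q := by exact_mod_cast D.hq3
  rcases D.w_or_h with hw | hw
  · have h2μ : 2 * D.μ = 3 * aug D.E - aug D.E ^ 2 := by
      rcases hw with h | h <;> rw [h] at h0 <;> linarith
    have h4 : aug D.E * (4 * aug D.E) = aug D.E * ((q : ℤ) * (3 - aug D.E)) := by nlinarith
    have h5 := mul_left_cancel₀ D.ε_ne h4
    have h6 : ((q : ℤ) + 4) * (3 - aug D.E) = 12 := by linarith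
    have hpos : 0 < 3 - aug D.E := by nlinarith
    have hlt : 3 - aug D.E < 2 := by nlinarith
    have hq8 : (q : ℤ) = 8 := by nlinarith
    have := D.hq
    rw [show q = 8 by exact_mod_cast hq8] at this
    exact absurd this (by decide)
  · have h1 : D.h ^ 2 = 1 := by
      rcases Int.natAbs_eq D.h with h | h <;> rw [h, hw] <;> simp
    have h2 : D.μ * q = 2 := by
      rw [← hcε, mul_assoc, ← sq, ← hH, h1]; ring
    have : 0 < D.μ := by nlinarith
    nlinarith

theorem not_caseA {p : ℕ} (hp : p.Prime) (hpq : p ∣ q) : ¬ D.CaseA p := by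
  rintro ⟨a, ha⟩
  haveI : Fact (1 < q) := ⟨by have := D.hq3; omega⟩
  have h1 := not_exists_mul_eq_one hp hpq
  rcases D.hE 1 one_ne_zero with h | h
  · exact D.not_caseA_zero hp hpq fun x hx => by rw [ha x hx, ← ha 1 h1, h]
  · exact D.compl.not_caseA_zero hp hpq fun x hx => by
      show (u q - D.E).coeff x = 0
      simp [ha x hx, ← ha 1 h1, h]

theorem periodic_of_pow_dvd {p : ℕ} (hp : p.Prime) :
    ∀ j, p ^ j ∣ q → ((p ^ j : ℕ) : ℤ) ∣ D.h ∧ D.Periodic (p ^ j) := by
  intro j
  induction j with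
  | zero => intro _; simpa using D.periodic_one
  | succ j ih =>
    intro hj
    obtain ⟨hd, hper⟩ := ih ((pow_dvd_pow p (Nat.le_succ j)).trans hj)
    rw [pow_succ] at hj ⊢
    obtain ⟨hA, hP⟩ := D.periodic_step hp hj hd hper
    have hdvd := by_contra fun h => D.not_caseA hp ((dvd_mul_left p _).trans hj) (hA h)
    exact ⟨hdvd, hP hdvd⟩

include D in
theorem contradiction : False := by
  have hqh : (q : ℤ) ∣ D.h := by
    rw [Int.natCast_dvd]
    refine (Nat.dvd_iff_prime_pow_dvd_dvd _ _).2 fun p k hp hk => ?_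
    exact Int.natCast_dvd.1 (D.periodic_of_pow_dvd hp k hk).1
  obtain ⟨p, hp, hpq⟩ := Nat.exists_prime_and_dvd (n := q) (by have := D.hq3; omega)
  have hper := (D.periodic_of_pow_dvd hp 1 (by rwa [pow_one])).2
  rw [pow_one] at hper
  have h01 := D.zero_one_of_periodic hpq hp.two_le hper
  have hε0 : 0 ≤ aug D.E := Finset.sum_nonneg fun x _ => by rcases h01 x with h | h <;> omega
  have hεq : aug D.E ≤ q := by
    refine (Finset.sum_le_card_nsmul _ _ 1 fun x _ => ?_).trans (by simp)
    rcases h01 x with h | h <;> omega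
  have hc0 : 0 ≤ aug D.C := Finset.sum_nonneg fun x _ => by rcases D.hC x with h | h <;> omega
  have hcq : aug D.C ≤ q := by
    refine (Finset.sum_le_card_nsmul _ _ 1 fun x _ => ?_).trans (by simp)
    rcases D.hC x with h | h <;> omega
  have hcε := D.c_mul_ε
  have h0 := D.coeff_zero_eq
  rw [D.H_eq] at h0
  have hq3 : (3 : ℤ) ≤ q := by exact_mod_cast D.hq3
  have hμ0 : 0 ≤ D.μ := by nlinarith [mul_nonneg hc0 hε0]
  have hle : (q : ℤ) ^ 2 ≤ D.h ^ 2 :=
    sq_le_sq.2 (by
      rw [abs_of_nonneg (by positivity : (0:ℤ) ≤ q)]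
      exact Int.le_of_dvd (abs_pos.2 D.h_ne) ((dvd_abs _ _).2 hqh))
  rcases h01 0 with h | h <;> rw [h] at h0 <;> nlinarith

end Datum

/-- the two equations of a strongly regular bicirculant over a dihedral group of order `2 q` -/
theorem no_dihedral_srg (hq : Odd q) (hq3 : 3 ≤ q) (d c : ZMod q → ℤ)
    (hd : ∀ x, d x = 0 ∨ d x = 1) (hc : ∀ x, c x = 0 ∨ c x = 1)
    (hd0 : d 0 = 0) (hds : ∀ x, d (-x) = d x) (k l m : ℤ)
    (hk : k = ∑ x, d x + ∑ x, c x)
    (hsame : ∀ x, ∑ y, d y * d (x - y) + ∑ y, c y * c (y - x) =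
      if x = 0 then k else if d x = 1 then l else m)
    (hcross : ∀ x, 2 * ∑ y, d y * c (x - y) = if c x = 1 then l else m)
    (hm : m ≠ 0) (hm' : 2 * (q : ℤ) - 2 * k + l ≠ 0) : False := by
  have hcross' : ∀ x, 2 * (ofFun d * ofFun c).coeff x = m + (l - m) * c x := fun x => by
    rw [coeff_mul']
    simp only [coeff_ofFun]
    rw [hcross]
    rcases hc x with h | h <;> rw [h] <;> norm_num
  obtain ⟨x0, hx0⟩ : ∃ x, c x = 0 := by
    by_contra hne
    push Not at hne
    have h1 : ∀ x, c x = 1 := fun x => (hc x).resolve_left (hne x)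
    have h := hcross 0
    simp only [h1, mul_one, if_true] at h
    have : ∑ x, c x = (q : ℤ) := by simp [h1]
    exact hm' (by linarith)
  obtain ⟨x1, hx1⟩ : ∃ x, c x = 1 := by
    by_contra hne
    push Not at hne
    have h1 : ∀ x, c x = 0 := fun x => (hc x).resolve_right (hne x)
    have h := hcross 0
    simp only [h1, mul_zero, Finset.sum_const_zero, zero_ne_one, if_false] at h
    exact hm h.symm
  have ha := hcross' x0
  have hb := hcross' x1
  rw [hx0] at ha
  rw [hx1] at hb
  set E0 := (ofFun d * ofFun c).coeff x1 - (ofFun d * ofFun c).coeff x0 with hE0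
  set μ := (ofFun d * ofFun c).coeff x0 with hμ
  have hl : l = 2 * E0 + 2 * μ := by rw [hE0]; linarith
  have hm2 : m = 2 * μ := by linarith
  set E := ofFun d - E0 • (1 : GR q) with hE
  have hEx : ∀ x, E.coeff x = d x - if x = 0 then E0 else 0 := fun x => by
    rw [hE, AddMonoidAlgebra.coeff_sub, Finsupp.sub_apply, coeff_smul', coeff_one', coeff_ofFun]
    split_ifs <;> ring
  have haugE : aug E = ∑ x, d x - E0 := by
    simp [aug, hEx, Finset.sum_sub_distrib]
  refine Datum.contradiction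
    { hq := hq, hq3 := hq3, E := E, C := ofFun c, μ := μ, H := k - m + E0 ^ 2
      hC := fun x => by simpa using hc x
      hE := fun x hx => by simpa [hEx, hx] using hd x
      hEs := fun x => by simp [hEx, hds]
      h1 := ?_, h2 := ?_, hμ := fun h => hm (by rw [hm2, h, mul_zero]), hμ' := ?_ }
  · refine ext' fun x => ?_
    rw [hE, mul_sub, mul_comm (ofFun c), mul_smul_comm, mul_one, AddMonoidAlgebra.coeff_sub,
      Finsupp.sub_apply, coeff_smul', coeff_smul', coeff_u, coeff_ofFun]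
    have := hcross' x
    rw [hl, hm2] at this
    linarith
  · refine ext' fun x => ?_
    have hEE : E * E = ofFun d * ofFun d - (2 * E0) • ofFun d + (E0 ^ 2) • (1 : GR q) := by
      rw [hE]
      simp only [sub_mul, mul_sub, smul_mul_assoc, mul_smul_comm, one_mul, mul_one, smul_smul]
      refine ext' fun y => ?_
      simp
      ring
    have hdd : (ofFun d * ofFun d).coeff x + (ofFun c * rev (ofFun c)).coeff x =
        if x = 0 then k else if d x = 1 then l else m := by
      rw [coeff_mul', coeff_mul']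
      simp only [rev, coeff_ofFun, neg_sub]
      exact hsame x
    rw [hEE]
    simp only [AddMonoidAlgebra.coeff_add, AddMonoidAlgebra.coeff_sub, Finsupp.add_apply,
      Finsupp.sub_apply, coeff_smul', coeff_one', coeff_u, coeff_ofFun, mul_one]
    by_cases hx : x = 0
    · subst hx
      rw [if_pos rfl] at hdd
      rw [if_pos rfl, hd0]
      linarith
    · rw [if_neg hx] at hdd
      rw [if_neg hx]
      rcases hd x with h | h
      · rw [if_neg (by rw [h]; exact zero_ne_one)] at hdd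
        rw [h]
        linarith
      · rw [if_pos h] at hdd
        rw [h]
        linarith
  · intro h
    apply hm'
    rw [haugE] at h
    have : aug (ofFun c) = ∑ x, c x := rfl
    rw [this] at h
    linarith

end Cfsg.Agent.DihedralSrg
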