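import Cfsg.Agent.PermGroups.BurnsideMinimal
import Mathlib

set_option autoImplicit false

/-!
Normal subgroups of multiply primitive groups.
-/

namespace Cfsg.Lib.PermGroups.NormalMultiply

open scoped Pointwise
open MulAction

universe u v

variable {G : Type u} [Group G] {α : Type v} [MulAction G α]

theorem pair_trans_of_le [Finite α] {n : ℕ} [IsMultiplyPretransitive G α n] (h2 : 2 ≤ n) (hn : n ≤ Nat.card α) :
    ∀ a b c d : α, a ≠ b → c ≠ d → ∃ g : G, g • a = c ∧ g • b = d := fun _ _ _ _ h h' =>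
  (is_two_pretransitive_iff.1 (isMultiplyPretransitive_of_le h2 hn)) h h'

theorem triple_trans_of_le [Finite α] {n : ℕ} [IsMultiplyPretransitive G α n] (h3 : 3 ≤ n) (hn : n ≤ Nat.card α)
    (a b c a' b' c' : α) (h1 : a ≠ b) (h2 : a ≠ c) (h4 : b ≠ c) (h5 : a' ≠ b') (h6 : a' ≠ c') (h7 : b' ≠ c') :
    ∃ g : G, g • a = a' ∧ g • b = b' ∧ g • c = c' := by
  have h : IsMultiplyPretransitive G α 3 := isMultiplyPretransitive_of_le h3 hn
  have mkE : ∀ a b c : α, a ≠ b → a ≠ c → b ≠ c → Function.Injective ![a, b, c] := by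
    intro a b c h1 h2 h3 i j h
    fin_cases i <;> fin_cases j <;>
      first | rfl | exact absurd h h1 | exact absurd h.symm h1 | exact absurd h h2 | exact absurd h.symm h2 |
        exact absurd h h3 | exact absurd h.symm h3
  obtain ⟨g, hg⟩ := h.exists_smul_eq ⟨_, mkE a b c h1 h2 h4⟩ ⟨_, mkE a' b' c' h5 h6 h7⟩
  exact ⟨g, DFunLike.congr_fun hg 0, DFunLike.congr_fun hg 1, DFunLike.congr_fun hg 2⟩

/-- A commutative group acting faithfully and primitively on a nontrivial finite set has prime degree. -/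
theorem prime_card_of_comm [Finite α] [Finite G] [Nontrivial α] [FaithfulSMul G α] [IsPreprimitive G α]
    (hc : ∀ x y : G, x * y = y * x) : (Nat.card α).Prime := by
  obtain ⟨a, b, hab⟩ := exists_pair_ne α
  obtain ⟨g, hg⟩ := exists_smul_eq G a b
  have hne : Nat.card G ≠ 1 := fun e => hab (by
    have : Subsingleton G := (Nat.card_eq_one_iff_unique.1 e).1
    rw [← hg, Subsingleton.elim g 1, one_smul])
  obtain ⟨p, hp, hpd⟩ := Nat.exists_prime_and_dvd hne
  have : Fact p.Prime := ⟨hp⟩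
  obtain ⟨t, ht⟩ := exists_prime_orderOf_dvd_card' p hpd
  have : (Subgroup.zpowers t).Normal := ⟨fun x hx y => by rwa [hc y x, mul_inv_cancel_right]⟩
  have htr : IsPretransitive (Subgroup.zpowers t) α := IsQuasiPreprimitive.isPretransitive_of_normal (G := G) fun h => by
    have h1 : t = 1 := FaithfulSMul.eq_of_smul_eq_smul (α := α) fun z => by
      rw [one_smul]
      exact (h.symm ▸ Set.mem_univ z : z ∈ fixedPoints (Subgroup.zpowers t) α) ⟨t, Subgroup.mem_zpowers t⟩
    rw [h1, orderOf_one] at ht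
    exact hp.one_lt.ne ht
  have hd := (stabilizer (Subgroup.zpowers t) a).index_dvd_card
  rw [index_stabilizer_of_transitive, Nat.card_zpowers, ht] at hd
  rcases (Nat.dvd_prime hp).1 hd with h | h
  · exact absurd h (Finite.one_lt_card (α := α)).ne'
  · exact h ▸ hp

set_option maxHeartbeats 1600000 in
/-- A sharply transitive normal piece is impossible here. -/
theorem regular_case_false [Finite α] [Finite G] [FaithfulSMul G α] (hns : ¬ Function.Surjective (toPermHom G α))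
    {k : ℕ} (hk : 2 ≤ k) (hkn : k + 1 ≤ Nat.card α) [IsMultiplyPreprimitive G α (k + 1)]
    (H : Subgroup G) [H.Normal] (a : α)
    (hfree : ∀ x ∈ H, x • a = a → ∀ b, b ≠ a → x • b = b → x = 1)
    (htr : ∀ b c : α, b ≠ a → c ≠ a → ∃ x ∈ H, x • a = a ∧ x • b = c) : False := by
  classical
  have := Fintype.ofFinite α
  have h3 := fun a b c a' b' c' => triple_trans_of_le (G := G) (α := α) (n := k + 1) (by omega) hkn a b c a' b' c'
  have h2 := pair_trans_of_le (G := G) (α := α) (n := k + 1) (by omega) hkn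
  have hn3 : 3 ≤ Nat.card α := by omega
  -- degree at most four is impossible
  have hn5 : 5 ≤ Nat.card α := by
    by_contra hlt
    apply hns
    intro σ
    obtain ⟨x, y, z, -, -, -, hxy, hxz, hyz⟩ : ∃ x y z : α, x ∈ (Finset.univ : Finset α) ∧ y ∈ (Finset.univ : Finset α) ∧ z ∈ (Finset.univ : Finset α) ∧ x ≠ y ∧ x ≠ z ∧ y ≠ z :=
      Finset.two_lt_card_iff.1 (by rw [Finset.card_univ, ← Nat.card_eq_fintype_card]; omega)
    obtain ⟨g, e1, e2, e3⟩ := h3 x y z (σ x) (σ y) (σ z) hxy hxz hyz (σ.injective.ne hxy) (σ.injective.ne hxz) (σ.injective.ne hyz)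
    refine ⟨g, Equiv.ext fun w => ?_⟩
    show g • w = σ w
    by_cases hw : w = x ∨ w = y ∨ w = z
    · rcases hw with rfl | rfl | rfl <;> assumption
    push Not at hw
    obtain ⟨hwx, hwy, hwz⟩ := hw
    have hu : (Finset.univ : Finset α) = {x, y, z, w} := (Finset.eq_of_subset_of_card_le (Finset.subset_univ _) (by
      rw [Finset.card_univ, ← Nat.card_eq_fintype_card,
        Finset.card_insert_of_notMem (by simp [hxy, hxz, Ne.symm hwx]),
        Finset.card_insert_of_notMem (by simp [hyz, Ne.symm hwy]), Finset.card_pair (Ne.symm hwz)]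
      omega)).symm
    obtain ⟨w', hw'⟩ := σ.surjective (g • w)
    have hm : w' ∈ ({x, y, z, w} : Finset α) := hu ▸ Finset.mem_univ w'
    simp only [Finset.mem_insert, Finset.mem_singleton] at hm
    rcases hm with rfl | rfl | rfl | rfl
    · rw [← e1] at hw'; exact absurd (MulAction.injective g hw').symm hwx
    · rw [← e2] at hw'; exact absurd (MulAction.injective g hw').symm hwy
    · rw [← e3] at hw'; exact absurd (MulAction.injective g hw').symm hwz
    · exact hw'.symm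
  have : IsPretransitive G α := ⟨fun x y => by
    by_cases h : x = y
    · exact ⟨1, by rw [one_smul, h]⟩
    · obtain ⟨g, hg, -⟩ := h2 x y y x h (Ne.symm h); exact ⟨g, hg⟩⟩
  set M := stabilizer G a
  set Δ := SubMulAction.ofStabilizer G a
  let R : Subgroup M := H.subgroupOf M
  have hRtr : IsPretransitive R Δ := ⟨fun x y => by
    obtain ⟨u, hu, hua, hub⟩ := htr x.1 y.1 x.2 y.2
    exact ⟨⟨⟨u, hua⟩, hu⟩, Subtype.ext hub⟩⟩
  have hΔ : Nat.card Δ + 1 = Nat.card α := SubMulAction.nat_card_ofStabilizer_add_one_eq G a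
  have : Nontrivial Δ := Finite.one_lt_card_iff_nontrivial.1 (by omega)
  obtain ⟨b, b', hbb'⟩ := exists_pair_ne Δ
  have hfreeR : ∀ b : Δ, ∀ x ∈ R, x • b = b → x = 1 := fun b x hx hxb =>
    Subtype.ext (hfree x.1 hx x.2 b.1 b.2 (congrArg Subtype.val hxb))
  have h2M : ∀ c d : Δ, c ≠ b → d ≠ b → ∃ g : M, g • b = b ∧ g • c = d := fun c d hc hd => by
    obtain ⟨g, ga, gb, gc⟩ := h3 a b.1 c.1 a b.1 d.1 (Ne.symm b.2) (Ne.symm c.2) (fun e => hc (Subtype.ext e).symm)
      (Ne.symm b.2) (Ne.symm d.2) (fun e => hd (Subtype.ext e).symm)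
    exact ⟨⟨g, ga⟩, Subtype.ext gb, Subtype.ext gc⟩
  have hconjeq : ∀ g : M, g • b = b → ∀ x ∈ R, ∀ y ∈ R, y • b = g • x • b → y = g * x * g⁻¹ := fun g hg x hx y hy hyx =>
    inv_mul_eq_one.1 (hfreeR b (y⁻¹ * (g * x * g⁻¹)) (R.mul_mem (R.inv_mem hy) (Subgroup.Normal.conj_mem inferInstance x hx g))
      (by rw [mul_smul, mul_smul, mul_smul, inv_smul_eq_iff.2 hg.symm, inv_smul_eq_iff, hyx]))
  obtain ⟨q, hq, hpow⟩ := BurnsideMinimal.exponent_prime R hRtr b (hfreeR b) h2M fun g hg x hx y hy hyx => by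
    rw [hconjeq g hg x hx y hy hyx]
    exact orderOf_injective (MulAut.conj g).toMonoidHom (MulAut.conj g).injective x
  have : Fact q.Prime := ⟨hq⟩
  by_cases hq2 : q = 2
  · -- involutions
    obtain ⟨c₀, hc₀⟩ : ∃ c₀ : α, c₀ ≠ a := ⟨b.1, b.2⟩
    obtain ⟨g₀, hg₀, -⟩ := h2 a c₀ c₀ a hc₀.symm hc₀
    obtain ⟨c, -, hc⟩ := Finset.exists_mem_notMem_of_card_lt_card (s := {a, c₀}) (t := (Finset.univ : Finset α))
      (by rw [Finset.card_univ, ← Nat.card_eq_fintype_card]; have := Finset.card_le_two (a := a) (b := c₀); omega)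
    obtain ⟨d, -, hd⟩ := Finset.exists_mem_notMem_of_card_lt_card (s := {a, c₀, c}) (t := (Finset.univ : Finset α))
      (by rw [Finset.card_univ, ← Nat.card_eq_fintype_card]; have := Finset.card_le_three (a := a) (b := c₀) (c := c); omega)
    simp only [Finset.mem_insert, Finset.mem_singleton, not_or] at hc hd
    obtain ⟨x, hx, hxa, hxc⟩ := htr c d hc.1 hd.1
    obtain ⟨y, hy, hya, hyc⟩ : ∃ y ∈ H, y • c₀ = c₀ ∧ y • c = d := by
      obtain ⟨u, hu, hua, huc⟩ := htr (g₀⁻¹ • c) (g₀⁻¹ • d)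
        (fun e => hc.2 (by rw [← hg₀, ← e, smul_inv_smul])) (fun e => hd.2.1 (by rw [← hg₀, ← e, smul_inv_smul]))
      refine ⟨g₀ * u * g₀⁻¹, Subgroup.Normal.conj_mem inferInstance u hu g₀, ?_, ?_⟩
      · rw [mul_smul, mul_smul, inv_smul_eq_iff.2 hg₀.symm, hua, hg₀]
      · rw [mul_smul, mul_smul, huc, smul_inv_smul]
    have hxd : x • d = c := by
      have h := congrArg Subtype.val (hpow ⟨x, hxa⟩ hx)
      rw [hq2] at h
      rw [← hxc, ← mul_smul, ← sq]
      have h' : x ^ 2 = 1 := h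
      rw [h', one_smul]
    have hyd : y • d = c := by
      have hconjmem : g₀⁻¹ * y * g₀ ∈ stabilizer G a := by
        rw [mem_stabilizer_iff, mul_smul, mul_smul, hg₀, hya, inv_smul_eq_iff]; exact hg₀.symm
      have h := congrArg Subtype.val (hpow ⟨g₀⁻¹ * y * g₀, hconjmem⟩ (by
        show g₀⁻¹ * y * g₀ ∈ H
        simpa using Subgroup.Normal.conj_mem (inferInstance : H.Normal) y hy g₀⁻¹))
      rw [hq2] at h
      have h' : (g₀⁻¹ * y * g₀) ^ 2 = 1 := h
      have hy2 : y ^ 2 = 1 := by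
        calc y ^ 2 = g₀ * (g₀⁻¹ * y * g₀) ^ 2 * g₀⁻¹ := by rw [sq, sq]; group
          _ = 1 := by rw [h', mul_one, mul_inv_cancel]
      rw [← hyc, ← mul_smul, ← sq, hy2, one_smul]
    -- `y⁻¹ * x` fixes `c` and `d`
    obtain ⟨g, hgc, -⟩ := h2 c d a c₀ (Ne.symm hd.2.2) hc₀.symm
    have hw : g * (y⁻¹ * x) * g⁻¹ = 1 := by
      have hmem : g * (y⁻¹ * x) * g⁻¹ ∈ H := Subgroup.Normal.conj_mem inferInstance _ (H.mul_mem (H.inv_mem hy) hx) g
      refine hfree _ hmem ?_ (g • d) (fun e => hd.2.2 (MulAction.injective g (e.trans hgc.symm))) ?_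
      · rw [mul_smul, mul_smul, inv_smul_eq_iff.2 hgc.symm, mul_smul, hxc, inv_smul_eq_iff.2 hyc.symm, hgc]
      · rw [mul_smul, mul_smul, inv_smul_smul, mul_smul, hxd, inv_smul_eq_iff.2 hyd.symm]
    rw [conj_eq_one_iff, inv_mul_eq_one] at hw
    have h1 : x = 1 := hfree x hx hxa c₀ hc₀ (by rw [← hw]; exact hya)
    rw [h1, one_smul] at hxc
    exact hd.2.2 hxc.symm
  -- odd exponent: the lines are blocks
  have : IsMultiplyPreprimitive M Δ k := isMultiplyPreprimitive_ofStabilizer G α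
  have : IsPretransitive M Δ := ⟨fun x y => by
    obtain ⟨u, hu⟩ := MulAction.exists_smul_eq R x y; exact ⟨u.1, hu⟩⟩
  obtain ⟨j, rfl⟩ : ∃ j, k = j + 1 := ⟨k - 1, by omega⟩
  have : IsMultiplyPreprimitive (stabilizer M b) (SubMulAction.ofStabilizer M b) j := isMultiplyPreprimitive_ofStabilizer M Δ
  have hcardΔ' : Nat.card (SubMulAction.ofStabilizer M b) + 1 = Nat.card Δ := SubMulAction.nat_card_ofStabilizer_add_one_eq M b
  have : IsPreprimitive (stabilizer M b) (SubMulAction.ofStabilizer M b) := by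
    rcases Nat.lt_or_ge j 2 with hj | hj
    · rw [← is_one_preprimitive_iff]
      rwa [show j = 1 by omega] at this
    · exact isPreprimitive_of_is_two_pretransitive
        (isMultiplyPretransitive_of_le (n := j) hj (by omega))
  set Δ' := SubMulAction.ofStabilizer M b
  obtain ⟨⟨x₀, hx₀⟩, hx₀b⟩ := MulAction.exists_smul_eq R b b'
  change x₀ • b = b' at hx₀b
  have hx1 : x₀ ≠ 1 := fun e => hbb' (by rw [← hx₀b, e, one_smul])
  have ho : orderOf x₀ = q := orderOf_eq_prime (hpow x₀ hx₀) hx1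
  let L : Set Δ' := {z | ∃ i : ℕ, x₀ ^ i • b = z.1}
  have hLcard : L.ncard + 1 ≤ q := by
    have h1 : (insert b ((fun z : Δ' => z.1) '' L)) ⊆ (fun i : ℕ => x₀ ^ i • b) '' Set.Iio q := by
      rintro _ (rfl | ⟨z, ⟨i, hi⟩, rfl⟩)
      · exact ⟨0, hq.pos, by simp⟩
      · exact ⟨i % q, Nat.mod_lt _ hq.pos, by show x₀ ^ (i % q) • b = z.1; rw [← hi, ← ho, pow_mod_orderOf]⟩
    have h2' := Set.ncard_le_ncard h1 (Set.Finite.image _ (Set.finite_Iio q))
    rw [Set.ncard_insert_of_notMem (show b ∉ (fun z : Δ' => z.1) '' L from fun ⟨z, _, hz⟩ => z.2 hz) (Set.toFinite _),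
      Set.ncard_image_of_injective _ Subtype.val_injective] at h2'
    refine h2'.trans ((Set.ncard_image_le (Set.finite_Iio q)).trans ?_)
    rw [← Finset.coe_Iio, Set.ncard_coe_finset, Nat.card_Iio]
  have hinj : ∀ {i : ℕ}, x₀ ^ i • b = b → x₀ ^ i = 1 := fun {i} h => hfreeR b _ (R.pow_mem hx₀ i) h
  have hblock : IsBlock (stabilizer M b) L := by
    rw [isBlock_iff_smul_eq_smul_of_nonempty]
    intro g₁ g₂ hne
    obtain ⟨z, hz1, hz2⟩ := hne
    obtain ⟨u₁, ⟨i₁, hi₁⟩, rfl⟩ := hz1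
    obtain ⟨u₂, ⟨i₂, hi₂⟩, he⟩ := hz2
    have hmap : ∀ (g : stabilizer M b) (i : ℕ), g.1 • x₀ ^ i • b = (g.1 * x₀ * g.1⁻¹) ^ i • b := fun g i => by
      rw [conj_pow, mul_smul, mul_smul, inv_smul_eq_iff.2 (g.2 : g.1 • b = b).symm]
    set y₁ := g₁.1 * x₀ * g₁.1⁻¹
    set y₂ := g₂.1 * x₀ * g₂.1⁻¹
    have hy : ∀ g : stabilizer M b, g.1 * x₀ * g.1⁻¹ ∈ R := fun g => Subgroup.Normal.conj_mem inferInstance _ hx₀ _
    have hpeq : y₂ ^ i₂ = y₁ ^ i₁ := by
      refine inv_mul_eq_one.1 (hfreeR b _ (R.mul_mem (R.inv_mem (R.pow_mem (hy g₂) _)) (R.pow_mem (hy g₁) _)) ?_)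
      rw [mul_smul, inv_smul_eq_iff, ← hmap, ← hmap, hi₁, hi₂]
      exact (congrArg Subtype.val he).symm
    have hy1ne : y₁ ^ i₁ ≠ 1 := fun e => u₁.2 (by
      have h := hmap g₁ i₁
      rw [e, one_smul, hi₁] at h
      exact MulAction.injective g₁.1 (h.trans (g₁.2 : g₁.1 • b = b).symm))
    -- the two lines coincide
    have hord : ∀ g : stabilizer M b, orderOf (g.1 * x₀ * g.1⁻¹) = q := fun g => by
      rw [← ho]; exact orderOf_injective (MulAut.conj g.1).toMonoidHom (MulAut.conj g.1).injective x₀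
    have hz : Subgroup.zpowers y₁ = Subgroup.zpowers y₂ := by
      have h1 : Subgroup.zpowers (y₁ ^ i₁) = Subgroup.zpowers y₁ := by
        refine Subgroup.eq_of_le_of_card_ge (Subgroup.zpowers_le.2 (Subgroup.pow_mem _ (Subgroup.mem_zpowers _) _)) ?_
        rw [Nat.card_zpowers, Nat.card_zpowers, hord g₁,
          orderOf_eq_prime (by rw [← pow_mul, mul_comm, pow_mul, hpow y₁ (hy g₁), one_pow]) hy1ne]
      have h2' : Subgroup.zpowers (y₂ ^ i₂) = Subgroup.zpowers y₂ := by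
        refine Subgroup.eq_of_le_of_card_ge (Subgroup.zpowers_le.2 (Subgroup.pow_mem _ (Subgroup.mem_zpowers _) _)) ?_
        rw [Nat.card_zpowers, Nat.card_zpowers, hord g₂,
          orderOf_eq_prime (by rw [← pow_mul, mul_comm, pow_mul, hpow y₂ (hy g₂), one_pow]) (by rw [hpeq]; exact hy1ne)]
      rw [← h1, ← h2', hpeq]
    have hsub : ∀ g g' : stabilizer M b, Subgroup.zpowers (g.1 * x₀ * g.1⁻¹) = Subgroup.zpowers (g'.1 * x₀ * g'.1⁻¹) → g • L ⊆ g' • L := by
      rintro g g' hgg _ ⟨u, ⟨i, hi⟩, rfl⟩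
      have h1 : (g.1 * x₀ * g.1⁻¹) ^ i ∈ Subgroup.zpowers (g'.1 * x₀ * g'.1⁻¹) := hgg ▸ Subgroup.pow_mem _ (Subgroup.mem_zpowers _) _
      obtain ⟨j', hj'⟩ := (Submonoid.mem_powers_iff _ _).1 ((isOfFinOrder_of_finite _).mem_powers_iff_mem_zpowers.2 h1)
      rw [Set.mem_smul_set_iff_inv_smul_mem]
      refine ⟨j', ?_⟩
      show x₀ ^ j' • b = g'.1⁻¹ • g.1 • u.1
      rw [← hi, hmap g i, ← hj', ← hmap g' j', inv_smul_smul]
    exact Set.Subset.antisymm (hsub g₁ g₂ hz) (hsub g₂ g₁ hz.symm)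
  have hb' : b' ≠ b := Ne.symm hbb'
  have hx2 : x₀ ^ 2 • b ≠ b := fun e => by
    have h := hinj e
    have := orderOf_dvd_of_pow_eq_one h
    rw [ho] at this
    exact hq2 ((Nat.prime_dvd_prime_iff_eq hq Nat.prime_two).1 this)
  rcases IsPreprimitive.isTrivialBlock_of_isBlock hblock with hL | hL
  · have h1 := hL (show (⟨b', hb'⟩ : Δ') ∈ L from ⟨1, by rw [pow_one]; exact hx₀b⟩) (show (⟨x₀ ^ 2 • b, hx2⟩ : Δ') ∈ L from ⟨2, rfl⟩)
    have h2' : x₀ • b = x₀ • x₀ • b := by
      rw [hx₀b]; rw [← hx₀b, ← mul_smul, ← sq]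
      exact hx₀b.trans (congrArg Subtype.val h1)
    exact hbb' ((MulAction.injective x₀ h2').trans hx₀b)
  · -- one line: cyclic kernel of prime order
    rw [hL, Set.ncard_univ] at hLcard
    have hRsmall : ∀ x ∈ R, x ∈ Subgroup.zpowers x₀ := fun x hx => by
      by_cases hxb : x • b = b
      · rw [hfreeR b x hx hxb]; exact one_mem _
      obtain ⟨i, hi⟩ : (⟨x • b, hxb⟩ : Δ') ∈ L := hL ▸ Set.mem_univ _
      have : (x₀ ^ i)⁻¹ * x = 1 := hfreeR b _ (R.mul_mem (R.inv_mem (R.pow_mem hx₀ i)) hx) (by rw [mul_smul, inv_smul_eq_iff, hi])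
      rw [← inv_mul_eq_one.1 this]
      exact Subgroup.pow_mem _ (Subgroup.mem_zpowers _) _
    have hfaith : ∀ g : stabilizer M b, g.1 * x₀ * g.1⁻¹ = x₀ → g = 1 := fun g hg => by
      refine Subtype.ext (Subtype.ext (FaithfulSMul.eq_of_smul_eq_smul (α := α) fun z => ?_))
      rw [show ((1 : stabilizer M b) : M).1 = 1 from rfl, one_smul]
      by_cases hza : z = a
      · rw [hza]; exact g.1.2
      obtain ⟨⟨x, hx⟩, hxz⟩ := MulAction.exists_smul_eq R b (⟨z, hza⟩ : Δ)
      obtain ⟨i, rfl⟩ := Subgroup.mem_zpowers_iff.1 (hRsmall x hx)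
      have h : g.1 • x₀ ^ i • b = x₀ ^ i • b := by
        conv_rhs => rw [← hg, conj_zpow, mul_smul, mul_smul, inv_smul_eq_iff.2 (g.2 : g.1 • b = b).symm]
      change x₀ ^ i • b = _ at hxz
      rw [hxz] at h
      exact congrArg Subtype.val h
    have hcomm : ∀ g g' : stabilizer M b, g * g' = g' * g := fun g g' => by
      have hmem : ∀ h : stabilizer M b, ∃ i : ℤ, x₀ ^ i = h.1 * x₀ * h.1⁻¹ := fun h =>
        Subgroup.mem_zpowers_iff.1 (hRsmall _ (Subgroup.Normal.conj_mem inferInstance _ hx₀ _))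
      obtain ⟨i, hi⟩ := hmem g
      obtain ⟨i', hi'⟩ := hmem g'
      have h1 : g.1 * g'.1 * x₀ * (g.1 * g'.1)⁻¹ = g'.1 * g.1 * x₀ * (g'.1 * g.1)⁻¹ := by
        calc g.1 * g'.1 * x₀ * (g.1 * g'.1)⁻¹ = g.1 * (g'.1 * x₀ * g'.1⁻¹) * g.1⁻¹ := by group
          _ = x₀ ^ (i * i') := by rw [← hi', ← conj_zpow, ← hi, ← zpow_mul]
          _ = g'.1 * (g.1 * x₀ * g.1⁻¹) * g'.1⁻¹ := by rw [← hi, ← conj_zpow, ← hi', ← zpow_mul, mul_comm]
          _ = _ := by group
      refine inv_mul_eq_one.1 (hfaith ((g * g')⁻¹ * (g' * g)) ?_)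
      simp only [Subgroup.coe_mul, Subgroup.coe_inv]
      calc (g.1 * g'.1)⁻¹ * (g'.1 * g.1) * x₀ * ((g.1 * g'.1)⁻¹ * (g'.1 * g.1))⁻¹
          = (g.1 * g'.1)⁻¹ * (g'.1 * g.1 * x₀ * (g'.1 * g.1)⁻¹) * (g.1 * g'.1) := by group
        _ = x₀ := by rw [← h1]; group
    have : Nontrivial Δ' := Finite.one_lt_card_iff_nontrivial.1 (by omega)
    have : FaithfulSMul (stabilizer M b) Δ' := ⟨fun {g g'} h => by
      refine Subtype.ext (Subtype.ext (FaithfulSMul.eq_of_smul_eq_smul (α := α) fun z => ?_))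
      by_cases hza : z = a
      · rw [hza]; exact (g.1.2).trans g'.1.2.symm
      by_cases hzb : (⟨z, hza⟩ : Δ) = b
      · exact congrArg Subtype.val ((congrArg (g.1 • ·) hzb).trans (g.2.trans (g'.2.symm.trans (congrArg (g'.1 • ·) hzb).symm)))
      · exact congrArg Subtype.val (congrArg Subtype.val (h ⟨⟨z, hza⟩, hzb⟩))⟩
    have hprime := prime_card_of_comm (G := stabilizer M b) (α := Δ') hcomm
    have hdq : q ∣ Nat.card Δ := by
      have hdvd : orderOf (⟨x₀, hx₀⟩ : R) ∣ Nat.card R := orderOf_dvd_natCard _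
      rw [← Subgroup.orderOf_coe, show ((⟨x₀, hx₀⟩ : R) : M) = x₀ from rfl, ho] at hdvd
      refine hdvd.trans (dvd_of_eq (Nat.card_congr (Equiv.ofBijective (fun x : R => (x : M) • b) ⟨fun x y e => ?_, fun z => ?_⟩)))
      · exact Subtype.ext (inv_mul_eq_one.1 (hfreeR b _ (R.mul_mem (R.inv_mem x.2) y.2) (by rw [mul_smul, inv_smul_eq_iff]; exact e.symm)))
      · obtain ⟨x, hx⟩ := MulAction.exists_smul_eq R b z; exact ⟨x, hx⟩
    have hqeq : Nat.card Δ = q := le_antisymm (by omega) (Nat.le_of_dvd Nat.card_pos hdq)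
    have hodd : ¬ 2 ∣ q := fun h => hq2 ((Nat.prime_dvd_prime_iff_eq Nat.prime_two hq).1 h).symm
    have h2d : 2 ∣ Nat.card Δ' := by omega
    have := (Nat.prime_dvd_prime_iff_eq Nat.prime_two hprime).1 h2d
    omega

/-- The inductive statement. -/
theorem main : ∀ (k : ℕ), 1 ≤ k → ∀ {G : Type u} [Group G] [Finite G] {α : Type v} [MulAction G α] [Finite α]
    [FaithfulSMul G α] (_ : k ≤ Nat.card α) (_ : IsMultiplyPreprimitive G α k)
    (_ : ¬ Function.Surjective (toPermHom G α)) (H : Subgroup G) [H.Normal] (_ : H ≠ ⊥)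
    (_ : ∃ a : α, ∃ x ∈ H, x • a = a ∧ x ≠ 1), IsMultiplyPretransitive H α k := by
  intro k hk
  induction k, hk using Nat.le_induction with
  | base =>
    intro G _ _ α _ _ _ hkn hG hns H _ hH _
    have : IsPreprimitive G α := is_one_preprimitive_iff _ _ |>.1 hG
    rw [is_one_pretransitive_iff]
    exact IsQuasiPreprimitive.isPretransitive_of_normal (G := G) fun h => hH ((Subgroup.eq_bot_iff_forall _).2 fun x hx =>
      FaithfulSMul.eq_of_smul_eq_smul (α := α) fun c => by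
        rw [one_smul]; exact (h.symm ▸ Set.mem_univ c : c ∈ fixedPoints H α) ⟨x, hx⟩)
  | succ k hk ih =>
    intro G _ _ α _ _ _ hkn hG hns H _ hH hnr
    have h2t : IsMultiplyPretransitive G α 2 := isMultiplyPretransitive_of_le (n := k + 1) (by omega) hkn
    have hprim : IsPreprimitive G α := isPreprimitive_of_is_two_pretransitive h2t
    have htrH : IsPretransitive H α :=
      IsQuasiPreprimitive.isPretransitive_of_normal (G := G) fun h => hH ((Subgroup.eq_bot_iff_forall _).2 fun x hx =>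
        FaithfulSMul.eq_of_smul_eq_smul (α := α) fun c => by
          rw [one_smul]; exact (h.symm ▸ Set.mem_univ c : c ∈ fixedPoints H α) ⟨x, hx⟩)
    obtain ⟨a, x, hx, hxa, hx1⟩ := hnr
    set M := stabilizer G a
    set Δ := SubMulAction.ofStabilizer G a
    have hΔ : Nat.card Δ + 1 = Nat.card α := SubMulAction.nat_card_ofStabilizer_add_one_eq G a
    have hGΔ : IsMultiplyPreprimitive M Δ k := isMultiplyPreprimitive_ofStabilizer G α
    have hfaith : FaithfulSMul M Δ := ⟨fun {g g'} h => Subtype.ext (FaithfulSMul.eq_of_smul_eq_smul (α := α) fun z => by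
      by_cases hza : z = a
      · rw [hza]; exact g.2.trans g'.2.symm
      · exact congrArg Subtype.val (h ⟨z, hza⟩))⟩
    have hRne : H.subgroupOf M ≠ ⊥ := fun h => hx1 (congrArg Subtype.val
      ((Subgroup.eq_bot_iff_forall _).1 h ⟨x, hxa⟩ hx))
    have hRk : IsMultiplyPretransitive (H.subgroupOf M) Δ k := by
      by_cases hnr' : ∃ b : Δ, ∃ y ∈ H.subgroupOf M, y • b = b ∧ y ≠ 1
      · refine ih (by omega) hGΔ (fun hsurj => hns fun σ => ?_) (H.subgroupOf M) hRne hnr'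
        obtain ⟨g₀, hg₀⟩ := MulAction.exists_smul_eq G a (σ a)
        set τ : Equiv.Perm α := (MulAction.toPerm g₀)⁻¹ * σ
        have hτa : τ a = a := by
          show (MulAction.toPerm g₀).symm (σ a) = a
          rw [Equiv.symm_apply_eq]; exact hg₀.symm
        obtain ⟨g, hg⟩ := hsurj (τ.subtypePerm (p := fun z => z ∈ Δ) fun z => by
          show τ z ≠ a ↔ z ≠ a
          exact not_congr ⟨fun e => τ.injective (e.trans hτa.symm), fun e => e ▸ hτa⟩)
        refine ⟨g₀ * g.1, Equiv.ext fun z => ?_⟩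
        show (g₀ * g.1) • z = σ z
        have hz : g.1 • z = τ z := by
          by_cases hza : z = a
          · rw [hza, hτa]; exact g.2
          · exact congrArg Subtype.val (DFunLike.congr_fun hg ⟨z, hza⟩)
        rw [mul_smul, hz]
        show g₀ • (MulAction.toPerm g₀).symm (σ z) = σ z
        exact (MulAction.toPerm g₀).apply_symm_apply (σ z)
      · push Not at hnr'
        by_cases hk2 : k = 1
        · subst hk2
          rw [is_one_pretransitive_iff]
          have : IsPreprimitive M Δ := is_one_preprimitive_iff _ _ |>.1 hGΔ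
          exact IsQuasiPreprimitive.isPretransitive_of_normal (G := M) fun h => hRne ((Subgroup.eq_bot_iff_forall _).2 fun y hy =>
            FaithfulSMul.eq_of_smul_eq_smul (α := Δ) fun c => by
              rw [one_smul]; exact (h.symm ▸ Set.mem_univ c : c ∈ fixedPoints (H.subgroupOf M) Δ) ⟨y, hy⟩)
        exfalso
        have : IsPreprimitive M Δ := isPreprimitive_of_is_two_pretransitive
          (isMultiplyPretransitive_of_le (n := k) (by omega) (by omega))
        have htrR : IsPretransitive (H.subgroupOf M) Δ :=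
          IsQuasiPreprimitive.isPretransitive_of_normal (G := M) fun h => hRne ((Subgroup.eq_bot_iff_forall _).2 fun y hy =>
            FaithfulSMul.eq_of_smul_eq_smul (α := Δ) fun c => by
              rw [one_smul]; exact (h.symm ▸ Set.mem_univ c : c ∈ fixedPoints (H.subgroupOf M) Δ) ⟨y, hy⟩)
        refine regular_case_false hns (k := k) (by omega) hkn H a (fun y hy hya b hb hyb => ?_) (fun b c hb hc => ?_)
        · exact congrArg Subtype.val (hnr' ⟨b, hb⟩ ⟨y, hya⟩ hy (Subtype.ext hyb))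
        · obtain ⟨y, hy⟩ := MulAction.exists_smul_eq (H.subgroupOf M) (⟨b, hb⟩ : Δ) ⟨c, hc⟩
          exact ⟨y.1.1, y.2, y.1.2, congrArg Subtype.val hy⟩
    refine ⟨fun p q => ?_⟩
    have key : ∀ p : Fin (k + 1) ↪ α, ∃ (u : H) (e : Fin k ↪ Δ), (u : G) • p 0 = a ∧ ∀ i : Fin k, (u : G) • p i.succ = (e i).1 := by
      intro p
      obtain ⟨u, hu⟩ := MulAction.exists_smul_eq H (p 0) a
      refine ⟨u, ⟨fun i => ⟨(u : G) • p i.succ, fun e => Fin.succ_ne_zero i (p.injective (MulAction.injective (u : G) (e.trans hu.symm)))⟩,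
        fun i i' e => Fin.succ_injective _ (p.injective (MulAction.injective (u : G) (congrArg Subtype.val e)))⟩, hu, fun i => rfl⟩
    obtain ⟨u, e, hu0, hue⟩ := key p
    obtain ⟨u', e', hu0', hue'⟩ := key q
    obtain ⟨⟨⟨y, hya⟩, hyH⟩, hy⟩ := hRk.exists_smul_eq e e'
    refine ⟨u'⁻¹ * ⟨y, hyH⟩ * u, Function.Embedding.ext fun i => ?_⟩
    show ((u' : G)⁻¹ * y * (u : G)) • p i = q i
    rw [mul_smul, mul_smul, inv_smul_eq_iff]
    induction i using Fin.cases with
    | zero => rw [hu0, hu0']; exact hya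
    | succ i => rw [hue, hue']; exact congrArg Subtype.val (DFunLike.congr_fun hy i)

end Cfsg.Lib.PermGroups.NormalMultiply
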