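import Mathlib

/-! Certificates for small subgroups of `GL(2,p)` that are regular on nonzero vectors. -/

set_option autoImplicit false

namespace Cfsg.Lib.PermGroups.RegMat

variable {p : ℕ}

abbrev T (p : ℕ) : Type := ZMod p × ZMod p × ZMod p × ZMod p

abbrev mul (x y : T p) : T p :=
  (x.1 * y.1 + x.2.1 * y.2.2.1, x.1 * y.2.1 + x.2.1 * y.2.2.2,
    x.2.2.1 * y.1 + x.2.2.2 * y.2.2.1, x.2.2.1 * y.2.1 + x.2.2.2 * y.2.2.2)

def toT (g : Matrix.GeneralLinearGroup (Fin 2) (ZMod p)) : T p :=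
  ((g : Matrix (Fin 2) (Fin 2) (ZMod p)) 0 0, (g : Matrix (Fin 2) (Fin 2) (ZMod p)) 0 1,
    (g : Matrix (Fin 2) (Fin 2) (ZMod p)) 1 0, (g : Matrix (Fin 2) (Fin 2) (ZMod p)) 1 1)

theorem toT_inj : Function.Injective (toT (p := p)) := fun g h e => by
  simp only [toT, Prod.mk.injEq] at e
  refine Units.ext (Matrix.ext fun i j => ?_)
  fin_cases i <;> fin_cases j <;> simp_all

theorem toT_mul (g h : Matrix.GeneralLinearGroup (Fin 2) (ZMod p)) : toT (g * h) = mul (toT g) (toT h) := by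
  simp [toT, mul, Matrix.mul_apply, Fin.sum_univ_two]

theorem toT_one : toT (1 : Matrix.GeneralLinearGroup (Fin 2) (ZMod p)) = (1, 0, 0, 1) := by
  simp [toT]

theorem mul_cancel (g : Matrix.GeneralLinearGroup (Fin 2) (ZMod p)) (y : T p) : mul (toT g⁻¹) (mul (toT g) y) = y := by
  have : mul (toT g⁻¹) (toT g) = (1, 0, 0, 1) := by rw [← toT_mul, inv_mul_cancel, toT_one]
  simp only [mul, Prod.mk.injEq] at this ⊢
  obtain ⟨e1, e2, e3, e4⟩ := this
  refine Prod.ext ?_ (Prod.ext ?_ (Prod.ext ?_ ?_))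
  · linear_combination y.1 * e1 + y.2.2.1 * e2
  · linear_combination y.2.1 * e1 + y.2.2.2 * e2
  · linear_combination y.1 * e3 + y.2.2.1 * e4
  · linear_combination y.2.1 * e3 + y.2.2.2 * e4

/-- Each entry of the second list is the product of a generator and an entry before it. -/
def check (gs : List (T p)) : List (T p) → List (T p) → List (ℕ × ℕ) → Bool
  | _, [], _ => true
  | _, _ :: _, [] => false
  | pre, x :: xs, q :: qs =>
    decide (x = mul (gs.getD q.1 (1, 0, 0, 1)) (pre.getD q.2 (1, 0, 0, 1))) && check gs (pre ++ [x]) xs qs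

theorem card_closure (L : List (Matrix.GeneralLinearGroup (Fin 2) (ZMod p))) (rest : List (T p)) (ptr : List (ℕ × ℕ))
    (hchk : check (L.map toT) [(1, 0, 0, 1)] rest ptr = true) (hnd : ((1, 0, 0, 1) :: rest).Nodup)
    (hclosed : ∀ g ∈ L.map toT, ∀ x ∈ ((1, 0, 0, 1) :: rest), mul g x ∈ ((1, 0, 0, 1) :: rest)) :
    Nat.card (Subgroup.closure {g | g ∈ L}) = ((1, 0, 0, 1) :: rest).length ∧
      ∀ g, g ∈ Subgroup.closure {g | g ∈ L} ↔ toT g ∈ ((1, 0, 0, 1) :: rest) := by
  classical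
  set H := Subgroup.closure {g | g ∈ L}
  set S := ((1, 0, 0, 1) :: rest : List (T p))
  have hsub : ∀ x ∈ S, ∃ g ∈ H, toT g = x := by
    have getD_mem : ∀ (l : List (T p)) (n : ℕ), l.getD n (1, 0, 0, 1) ∈ l ∨ l.getD n (1, 0, 0, 1) = (1, 0, 0, 1) := fun l n => by
      by_cases h : n < l.length
      · left; rw [List.getD_eq_getElem _ _ h]; exact List.getElem_mem h
      · right; rw [List.getD_eq_default _ _ (not_lt.1 h)]
    have key : ∀ (xs : List (T p)) (ptr : List (ℕ × ℕ)) (acc : List (T p)), check (L.map toT) acc xs ptr = true →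
        (∀ x ∈ acc, ∃ g ∈ H, toT g = x) → ∀ x ∈ acc ++ xs, ∃ g ∈ H, toT g = x := by
      intro xs
      induction xs with
      | nil => intro ptr acc _ h x hx; exact h x (by simpa using hx)
      | cons y ys ih =>
        intro ptr acc hc h x hx
        rcases ptr with _ | ⟨q, ptr⟩
        · simp [check] at hc
        simp only [check, Bool.and_eq_true, decide_eq_true_eq] at hc
        refine ih ptr (acc ++ [y]) hc.2 (fun z hz => ?_) x (by simpa using hx)
        rcases List.mem_append.1 hz with hz | hz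
        · exact h z hz
        rw [List.mem_singleton] at hz
        obtain ⟨a, ha, hae⟩ : ∃ g ∈ H, toT g = (L.map toT).getD q.1 (1, 0, 0, 1) := by
          rcases getD_mem (L.map toT) q.1 with hm | hm
          · obtain ⟨g, hg, e⟩ := List.mem_map.1 hm
            exact ⟨g, Subgroup.subset_closure hg, e⟩
          · exact ⟨1, H.one_mem, toT_one.trans hm.symm⟩
        obtain ⟨b, hb, hbe⟩ : ∃ g ∈ H, toT g = acc.getD q.2 (1, 0, 0, 1) := by
          rcases getD_mem acc q.2 with hm | hm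
          · exact h _ hm
          · exact ⟨1, H.one_mem, toT_one.trans hm.symm⟩
        exact ⟨a * b, H.mul_mem ha hb, by rw [toT_mul, hae, hbe, hz, ← hc.1]⟩
    exact key rest ptr [(1, 0, 0, 1)] hchk fun x hx => ⟨1, H.one_mem, by rw [List.mem_singleton.1 hx, toT_one]⟩
  have h1 : ((1, 0, 0, 1) : T p) ∈ S := List.mem_cons_self
  have hmon : H ≤ ({ carrier := {g | ∀ x ∈ S, mul (toT g) x ∈ S}
                     one_mem' := fun x hx => by rw [toT_one]; simpa [mul] using hx
                     mul_mem' := fun {g h} hg hh x hx => by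
                       have := hg _ (hh x hx)
                       rw [toT_mul]
                       convert this using 1
                       simp only [mul, Prod.mk.injEq]
                       refine ⟨?_, ?_, ?_, ?_⟩ <;> ring
                     inv_mem' := fun {g} hg x hx => by
                       have hinj : Set.InjOn (fun y => mul (toT g) y) {y | y ∈ S} := fun y _ z _ h => by
                         have h' := congrArg (mul (toT g⁻¹)) h
                         simpa only [mul_cancel] using h'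
                       have hbij : Set.BijOn (fun y => mul (toT g) y) {y | y ∈ S} {y | y ∈ S} :=
                         ⟨hg, hinj, ((List.finite_toSet S).injOn_iff_bijOn_of_mapsTo hg).1 hinj |>.2.2⟩
                       obtain ⟨y, hy, e⟩ := hbij.2.2 hx
                       rw [← e, mul_cancel]
                       exact hy } :
      Subgroup (Matrix.GeneralLinearGroup (Fin 2) (ZMod p))) :=
    (Subgroup.closure_le _).2 fun g hg x hx => hclosed _ (List.mem_map.2 ⟨g, hg, rfl⟩) x hx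
  have hiff : ∀ g, g ∈ H ↔ toT g ∈ S := fun g => by
    refine ⟨fun hg => ?_, fun hg => ?_⟩
    · simpa [mul] using hmon hg _ h1
    · obtain ⟨h, hh, e⟩ := hsub _ hg
      exact toT_inj e ▸ hh
  refine ⟨?_, hiff⟩
  rw [← List.toFinset_card_of_nodup hnd, ← Nat.card_eq_finsetCard]
  refine Nat.card_congr (Equiv.ofBijective (fun g : H => (⟨toT g.1, List.mem_toFinset.2 ((hiff _).1 g.2)⟩ : S.toFinset)) ⟨fun g h e => Subtype.ext (toT_inj (congrArg Subtype.val e)), fun x => ?_⟩)
  obtain ⟨g, hg, e⟩ := hsub x.1 (List.mem_toFinset.1 x.2)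
  exact ⟨⟨g, hg⟩, Subtype.ext e⟩

/-- No element of `x` other than the identity fixes a nonzero vector. -/
abbrev free (x : T p) : Prop := x = (1, 0, 0, 1) ∨ (x.1 - 1) * (x.2.2.2 - 1) - x.2.1 * x.2.2.1 ≠ 0

theorem regular [Fact p.Prime] (H : Subgroup (Matrix.GeneralLinearGroup (Fin 2) (ZMod p))) (hfree : ∀ g ∈ H, free (toT g))
    (hcard : p ^ 2 - 1 ≤ Nat.card H) :
    Nat.card H = p ^ 2 - 1 ∧ ∀ v w : Fin 2 → ZMod p, v ≠ 0 → w ≠ 0 → ∃! h : H,
      Matrix.mulVec ((h : Matrix.GeneralLinearGroup (Fin 2) (ZMod p)) : Matrix (Fin 2) (Fin 2) (ZMod p)) v = w := by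
  classical
  let V := {v : Fin 2 → ZMod p // v ≠ 0}
  have hV : Nat.card V = p ^ 2 - 1 := by
    rw [Nat.card_eq_fintype_card, Fintype.card_subtype_compl, Fintype.card_subtype_eq, Fintype.card_fun, ZMod.card, Fintype.card_fin]
  let act : H → V → V := fun h v => ⟨((h : Matrix.GeneralLinearGroup (Fin 2) (ZMod p)) : Matrix (Fin 2) (Fin 2) (ZMod p)).mulVec v.1, fun e => v.2 (by
    have := congrArg ((↑((h : Matrix.GeneralLinearGroup (Fin 2) (ZMod p))⁻¹) : Matrix (Fin 2) (Fin 2) (ZMod p)).mulVec) e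
    rwa [Matrix.mulVec_mulVec, Units.inv_mul, Matrix.one_mulVec, Matrix.mulVec_zero] at this)⟩
  have hinj : ∀ v : V, Function.Injective fun h => act h v := by
    intro v h h' e
    have e' : ((h'⁻¹ * h : H) : Matrix.GeneralLinearGroup (Fin 2) (ZMod p)).val.mulVec v.1 = v.1 := by
      have := congrArg (fun w : V => ((h'⁻¹ : H) : Matrix.GeneralLinearGroup (Fin 2) (ZMod p)).val.mulVec w.1) e
      simp only [act, Matrix.mulVec_mulVec] at this
      rw [Subgroup.coe_mul, Units.val_mul, this]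
      rw [show ((h'⁻¹ : H) : Matrix.GeneralLinearGroup (Fin 2) (ZMod p)).val * (h' : Matrix.GeneralLinearGroup (Fin 2) (ZMod p)).val = 1 by
        rw [Subgroup.coe_inv]; exact Units.inv_mul _, Matrix.one_mulVec]
    rcases hfree _ (h'⁻¹ * h).2 with hf | hf
    · have : h'⁻¹ * h = 1 := Subtype.ext (toT_inj (hf.trans toT_one.symm))
      exact (inv_mul_eq_one.1 this).symm
    · exfalso
      refine hf ?_
      set M := ((h'⁻¹ * h : H) : Matrix.GeneralLinearGroup (Fin 2) (ZMod p)).val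
      have h0 : (M - 1).mulVec v.1 = 0 := by rw [Matrix.sub_mulVec, e', Matrix.one_mulVec, sub_self]
      have hdet : (M - 1).det = 0 := Matrix.exists_mulVec_eq_zero_iff.1 ⟨v.1, v.2, h0⟩
      rw [Matrix.det_fin_two] at hdet
      simpa [toT, M] using hdet
  obtain ⟨v₀⟩ : Nonempty V := ⟨⟨![1, 0], fun h => one_ne_zero (congrFun h 0)⟩⟩
  have hle : Nat.card H ≤ p ^ 2 - 1 := hV ▸ Nat.card_le_card_of_injective _ (hinj v₀)
  refine ⟨le_antisymm hle hcard, fun v w hv hw => ?_⟩
  have hb := (hinj ⟨v, hv⟩).bijective_of_nat_card_le (by rw [hV]; exact hcard)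
  obtain ⟨h, hh⟩ := hb.2 ⟨w, hw⟩
  exact ⟨h, congrArg Subtype.val hh, fun h' hh' => hb.1 ((Subtype.ext hh' : act h' ⟨v, hv⟩ = ⟨w, hw⟩).trans hh.symm)⟩

/-! The same checks on natural numbers, for fast evaluation. -/

abbrev N4 : Type := ℕ × ℕ × ℕ × ℕ

def cast4 (x : N4) : T p := ((x.1 : ZMod p), (x.2.1 : ZMod p), (x.2.2.1 : ZMod p), (x.2.2.2 : ZMod p))

def mulN (q : ℕ) (x y : N4) : N4 :=
  ((x.1 * y.1 + x.2.1 * y.2.2.1) % q, (x.1 * y.2.1 + x.2.1 * y.2.2.2) % q,
    (x.2.2.1 * y.1 + x.2.2.2 * y.2.2.1) % q, (x.2.2.1 * y.2.1 + x.2.2.2 * y.2.2.2) % q)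

theorem cast4_mul (x y : N4) : (cast4 (mulN p x y) : T p) = mul (cast4 x) (cast4 y) := by
  simp [cast4, mulN, mul, ZMod.natCast_mod]

def eqN (x y : N4) : Bool := x.1 == y.1 && x.2.1 == y.2.1 && x.2.2.1 == y.2.2.1 && x.2.2.2 == y.2.2.2

theorem eqN_iff {x y : N4} : eqN x y = true ↔ x = y := by
  simp [eqN, Prod.ext_iff, and_assoc]

def memN (x : N4) : List N4 → Bool
  | [] => false
  | y :: ys => eqN x y || memN x ys

theorem memN_iff {x : N4} {l : List N4} : memN x l = true ↔ x ∈ l := by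
  induction l with
  | nil => simp [memN]
  | cons y ys ih => simp [memN, eqN_iff, ih]

def checkN (q : ℕ) (gs : List N4) : List N4 → List N4 → List (ℕ × ℕ) → Bool
  | _, [], _ => true
  | _, _ :: _, [] => false
  | pre, x :: xs, t :: ts =>
    eqN x (mulN q (gs.getD t.1 (1, 0, 0, 1)) (pre.getD t.2 (1, 0, 0, 1))) && checkN q gs (pre ++ [x]) xs ts

theorem check_of_checkN (gs : List N4) : ∀ (xs pre : List N4) (ts : List (ℕ × ℕ)), checkN p gs pre xs ts = true →
    check (gs.map (cast4 (p := p))) (pre.map cast4) (xs.map cast4) ts = true := by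
  intro xs
  induction xs with
  | nil => intro pre ts _; simp [check]
  | cons x xs ih =>
    intro pre ts h
    rcases ts with _ | ⟨t, ts⟩
    · simp [checkN] at h
    simp only [checkN, Bool.and_eq_true, eqN_iff] at h
    have h1 : (cast4 (1, 0, 0, 1) : T p) = (1, 0, 0, 1) := by simp [cast4]
    simp only [List.map_cons, check, Bool.and_eq_true, decide_eq_true_eq]
    refine ⟨?_, ?_⟩
    · rw [← h1, List.getD_map, List.getD_map, ← cast4_mul, ← h.1]
    · have := ih (pre ++ [x]) ts h.2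
      rwa [List.map_append] at this

def smallN (q : ℕ) (x : N4) : Bool := x.1.blt q && x.2.1.blt q && x.2.2.1.blt q && x.2.2.2.blt q

def nodupN : List N4 → Bool
  | [] => true
  | x :: xs => !memN x xs && nodupN xs

def closedN (q : ℕ) (gs S : List N4) : Bool := gs.all fun g => S.all fun x => memN (mulN q g x) S

/-- All the checks at once. -/
def certify (q : ℕ) (gs rest : List N4) (ts : List (ℕ × ℕ)) : Bool :=
  checkN q gs [(1, 0, 0, 1)] rest ts && ((1, 0, 0, 1) :: rest).all (smallN q) && nodupN ((1, 0, 0, 1) :: rest) &&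
    closedN q gs ((1, 0, 0, 1) :: rest)

theorem of_certify (gs rest : List N4) (ts : List (ℕ × ℕ)) (h : certify p gs rest ts = true) :
    check (gs.map (cast4 (p := p))) [(1, 0, 0, 1)] (rest.map cast4) ts = true ∧
      ((1, 0, 0, 1) :: rest.map (cast4 (p := p))).Nodup ∧
      ∀ g ∈ gs.map (cast4 (p := p)), ∀ x ∈ (1, 0, 0, 1) :: rest.map (cast4 (p := p)),
        mul g x ∈ (1, 0, 0, 1) :: rest.map (cast4 (p := p)) := by
  have h1 : (cast4 (1, 0, 0, 1) : T p) = (1, 0, 0, 1) := by simp [cast4]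
  simp only [certify, Bool.and_eq_true] at h
  obtain ⟨⟨⟨hc, hs⟩, hn⟩, hcl⟩ := h
  rw [List.all_eq_true] at hs
  refine ⟨?_, ?_, ?_⟩
  · have := check_of_checkN gs rest [(1, 0, 0, 1)] ts hc
    rwa [List.map_cons, List.map_nil, h1] at this
  · rw [← h1, ← List.map_cons]
    have hnd : ((1, 0, 0, 1) :: rest : List N4).Nodup := by
      generalize ((1, 0, 0, 1) :: rest : List N4) = l at hn
      induction l with
      | nil => exact List.nodup_nil
      | cons x xs ih =>
        simp only [nodupN, Bool.and_eq_true, Bool.not_eq_true', ← Bool.not_eq_true, memN_iff] at hn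
        exact List.nodup_cons.2 ⟨hn.1, ih hn.2⟩
    refine List.Nodup.map_on (fun x hx y hy e => ?_) hnd
    have hx' := hs x hx
    have hy' := hs y hy
    simp only [smallN, Bool.and_eq_true, Nat.blt_eq] at hx' hy'
    simp only [cast4, Prod.mk.injEq] at e
    obtain ⟨e1, e2, e3, e4⟩ := e
    have cast_inj : ∀ {m n : ℕ}, m < p → n < p → (m : ZMod p) = (n : ZMod p) → m = n := fun hm hn e => by
      have := (ZMod.natCast_eq_natCast_iff' _ _ _).1 e
      rwa [Nat.mod_eq_of_lt hm, Nat.mod_eq_of_lt hn] at this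
    exact Prod.ext (cast_inj hx'.1.1.1 hy'.1.1.1 e1) (Prod.ext (cast_inj hx'.1.1.2 hy'.1.1.2 e2)
      (Prod.ext (cast_inj hx'.1.2 hy'.1.2 e3) (cast_inj hx'.2 hy'.2 e4)))
  · rw [← h1, ← List.map_cons]
    intro g hg x hx
    obtain ⟨g', hg', rfl⟩ := List.mem_map.1 hg
    obtain ⟨x', hx', rfl⟩ := List.mem_map.1 hx
    simp only [closedN, List.all_eq_true, memN_iff] at hcl
    exact List.mem_map.2 ⟨_, hcl g' hg' x' hx', cast4_mul _ _⟩

/-- `c • x` fixes no nonzero vector, unless it is the identity. -/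
def freeN (q c : ℕ) (x : N4) : Bool :=
  eqN (mulN q (c, 0, 0, c) x) (1, 0, 0, 1) ||
    !((((mulN q (c, 0, 0, c) x).1 + (q - 1)) * ((mulN q (c, 0, 0, c) x).2.2.2 + (q - 1)) +
      (q * q - (mulN q (c, 0, 0, c) x).2.1 * (mulN q (c, 0, 0, c) x).2.2.1)) % q == 0)

theorem free_of_freeN [NeZero p] {c : ℕ} {x : N4} (h : freeN p c x = true) :
    free (mul ((c : ZMod p), 0, 0, (c : ZMod p)) (cast4 x)) := by
  have e : mul ((c : ZMod p), 0, 0, (c : ZMod p)) (cast4 x) = cast4 (mulN p (c, 0, 0, c) x) := by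
    rw [cast4_mul]; simp [cast4]
  rw [e]
  simp only [freeN, Bool.or_eq_true, eqN_iff, Bool.not_eq_true', beq_eq_false_iff_ne, ne_eq] at h
  rcases h with h | h
  · exact Or.inl (by rw [h]; simp [cast4])
  · refine Or.inr fun h0 => h ?_
    obtain ⟨a, b, b', d, hy, ha, hb, hb', hd⟩ : ∃ a b b' d : ℕ, mulN p (c, 0, 0, c) x = (a, b, b', d) ∧ a < p ∧ b < p ∧ b' < p ∧ d < p := by
      have hp := NeZero.pos p
      exact ⟨_, _, _, _, rfl, Nat.mod_lt _ hp, Nat.mod_lt _ hp, Nat.mod_lt _ hp, Nat.mod_lt _ hp⟩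
    rw [hy] at h0 ⊢
    rw [← Nat.dvd_iff_mod_eq_zero, ← ZMod.natCast_eq_zero_iff]
    simp only [cast4] at h0
    push_cast [Nat.cast_sub (show 1 ≤ p from NeZero.pos p), Nat.cast_sub (Nat.mul_le_mul hb.le hb'.le)]
    simp only [ZMod.natCast_self]
    linear_combination h0

end Cfsg.Lib.PermGroups.RegMat
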