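import Cfsg.Agent.PermGroups.PermModule

set_option autoImplicit false

/-!
Common divisors of the constituent degrees divide the subdegrees.
-/

namespace Cfsg.Lib.PermGroups.Subdegrees

open scoped ComplexConjugate
open Cfsg.Lib.Chars Cfsg.Lib.PermGroups Module Polynomial

universe u v

variable {G : Type u} [Group G] [Fintype G] {Ω : Type v} [Fintype Ω] [MulAction G Ω]

/-- The trivial character. -/
noncomputable def triv (G : Type u) [Group G] : Cfsg.IrrCharacter G :=
  ⟨fun _ => 1, by
    refine ⟨1, Representation.trivial ℂ G (Fin 1 → ℂ), ?_, funext fun g => by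
      simp [Representation.character]⟩
    have : Fact (Module.finrank ℂ (Fin 1 → ℂ) = 1) := ⟨by simp⟩
    refine @IsSimpleOrder.mk _ _ _ ⟨⊥, ⊤, fun h => ?_⟩ fun S => ?_
    · have := congrArg Subrepresentation.toSubmodule h
      exact bot_ne_top (α := Submodule ℂ (Fin 1 → ℂ)) this
    · have : S.toSubmodule = ⊥ ∨ S.toSubmodule = ⊤ :=
        (is_simple_module_of_finrank_eq_one (K := ℂ) (by simp : finrank ℂ (Fin 1 → ℂ) = 1)).eq_bot_or_eq_top _
      exact this.imp (fun h => Subrepresentation.toSubmodule_injective h) (fun h => Subrepresentation.toSubmodule_injective h)⟩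

theorem mult_triv {V : Type v} [AddCommGroup V] [Module ℂ V] [FiniteDimensional ℂ V]
    (ρ : Representation ℂ G V) : Constituents.mult ρ (triv G) = finrank ℂ ρ.invariants := by
  have : Invertible (Nat.card G : ℂ) := invertibleOfNonzero (by exact_mod_cast Nat.card_pos.ne')
  apply Nat.cast_injective (R := ℂ)
  rw [← Constituents.mult_spec, ← Representation.card_inv_mul_sum_char_eq_finrank, classInner_def]
  simp [triv]

theorem hasEigenvalue_of_maxGen {A : Module.End ℂ (Ω → ℂ)} {μ : ℂ} (h : Module.End.maxGenEigenspace A μ ≠ ⊥) :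
    Module.End.HasEigenvalue A μ :=
  (Module.End.hasUnifEigenvalue_iff_hasUnifEigenvalue_one (k := ⊤) (by simp)).1 h

theorem isIntegral_eigenvalue [DecidableEq Ω] {A : (Ω → ℂ) →ₗ[ℂ] (Ω → ℂ)} (N : Matrix Ω Ω ℤ)
    (hN : ∀ c d, PermModule.entry A c d = (N c d : ℂ)) {μ : ℂ} {v : Ω → ℂ}
    (hv : Module.End.HasEigenvector A μ v) : IsIntegral ℤ μ := by
  obtain ⟨P, hPm, hP⟩ := Matrix.isIntegral N
  let φ : Matrix Ω Ω ℤ →ₐ[ℤ] Module.End ℂ (Ω → ℂ) :=
    ((Matrix.toLinAlgEquiv' : Matrix Ω Ω ℂ ≃ₐ[ℂ] Module.End ℂ (Ω → ℂ)).toAlgHom.restrictScalars ℤ).comp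
      (Algebra.ofId ℤ ℂ).mapMatrix
  have hφ : φ N = A := PermModule.ext_entry fun c d => by
    show Matrix.toLinAlgEquiv' (N.map (Int.cast : ℤ → ℂ)) (Pi.single d 1) c = _
    rw [Matrix.toLinAlgEquiv'_apply, Matrix.mulVec_single_one, hN]
    rfl
  refine ⟨P, hPm, ?_⟩
  have h1 : aeval A P = 0 := by
    rw [← hφ, aeval_algHom_apply, show aeval N P = 0 from hP, map_zero]
  have h2 := Module.End.aeval_apply_of_hasEigenvector (p := P.map (algebraMap ℤ ℂ)) hv
  rw [aeval_map_algebraMap, h1, LinearMap.zero_apply, eval_map] at h2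
  exact (smul_eq_zero.1 h2.symm).resolve_right hv.2

theorem dvd_subdegree [MulAction.IsPretransitive G Ω] (f : ℕ)
    (hf : ∀ χ : G → ℂ, Cfsg.IsIrrCharacter G χ → χ ≠ (fun _ => 1) →
      Cfsg.classInner (PermModule.pc G Ω) χ ≠ 0 → ∃ m : ℕ, χ 1 = (f : ℂ) * m)
    (a b : Ω) (hab : b ≠ a) : f ∣ Nat.card (MulAction.orbit (MulAction.stabilizer G a) b) := by
  classical
  set ρ := Cfsg.permRep ℂ G Ω
  set A := PermModule.orbital G a b
  have hA : ∀ g v, A (ρ g v) = ρ g (A v) := PermModule.orbital_comm a b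
  set n := Nat.card (MulAction.orbit (MulAction.stabilizer G a) b)
  have hrow : ∀ c : Ω, (Finset.univ.filter (fun d => ∃ g : G, g • a = c ∧ g • b = d)).card = n := by
    intro c
    obtain ⟨g, rfl⟩ := MulAction.exists_smul_eq G a c
    show _ = Nat.card _
    rw [Nat.card_eq_fintype_card, ← Set.toFinset_card]
    refine (Finset.card_equiv (MulAction.toPerm g) fun d => ?_).symm
    simp only [Set.mem_toFinset, Finset.mem_filter, Finset.mem_univ, true_and, MulAction.toPerm_apply]
    constructor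
    · rintro ⟨k, rfl⟩
      exact ⟨g * k.1, by rw [mul_smul, show k.1 • a = a from k.2], mul_smul _ _ _⟩
    · rintro ⟨k, h1, h2⟩
      refine ⟨⟨g⁻¹ * k, ?_⟩, ?_⟩
      · rw [MulAction.mem_stabilizer_iff, mul_smul, h1, inv_smul_smul]
      · show (g⁻¹ * k) • b = d
        rw [mul_smul, h2, inv_smul_smul]
  have hone : A (fun _ => 1) = (n : ℂ) • fun _ => 1 := funext fun c => by
    simp only [A, PermModule.orbital, LinearMap.coe_mk, AddHom.coe_mk, Finset.sum_const, nsmul_one,
      Pi.smul_apply, smul_eq_mul, mul_one]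
    congr 1
    convert hrow c
  have htr : LinearMap.trace ℂ (Ω → ℂ) A = 0 := by
    rw [LinearMap.trace_eq_matrix_trace ℂ (Pi.basisFun ℂ Ω)]
    refine Finset.sum_eq_zero fun c _ => ?_
    rw [Matrix.diag_apply, LinearMap.toMatrix_apply, Pi.basisFun_apply, Pi.basisFun_repr,
      show A (Pi.single c 1) c = PermModule.entry A c c from rfl, PermModule.entry_orbital, if_neg]
    rintro ⟨g, h1, h2⟩
    exact hab (MulAction.injective g (h2.trans h1.symm))
  let N := fun μ : ℂ => Module.End.maxGenEigenspace A μ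
  have hint : DirectSum.IsInternal N :=
    (DirectSum.isInternal_submodule_iff_iSupIndep_and_iSup_eq_top _).2
      ⟨Module.End.independent_maxGenEigenspace A, Module.End.iSup_maxGenEigenspace_eq_top A⟩
  have hfin : {μ | N μ ≠ ⊥}.Finite := by
    refine Set.Finite.subset (Module.End.finite_hasEigenvalue A) fun μ hμ => ?_
    exact hasEigenvalue_of_maxGen hμ
  have hmapsTo : ∀ μ, Set.MapsTo A (Module.End.maxGenEigenspace A μ : Set (Ω → ℂ)) (Module.End.maxGenEigenspace A μ) := fun μ =>
    Module.End.mapsTo_maxGenEigenspace_of_comm (Commute.refl A) μ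
  have htr2 := LinearMap.trace_eq_sum_trace_restrict' hint hfin hmapsTo
  rw [htr] at htr2
  have htrres : ∀ μ, LinearMap.trace ℂ (Module.End.maxGenEigenspace A μ) (A.restrict (hmapsTo μ)) = μ * (finrank ℂ (Module.End.maxGenEigenspace A μ) : ℂ) := fun μ => by
    have h1 := Module.End.isNilpotent_restrict_maxGenEigenspace_sub_algebraMap A μ
    have h2 := (LinearMap.isNilpotent_trace_of_isNilpotent h1).eq_zero
    have h4 : A.restrict (hmapsTo μ) = LinearMap.restrict (A - algebraMap ℂ (Module.End ℂ (Ω → ℂ)) μ)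
        (Module.End.mapsTo_maxGenEigenspace_of_comm (Algebra.mul_sub_algebraMap_commutes A μ) μ) +
        μ • LinearMap.id := LinearMap.ext fun x => Subtype.ext (sub_add_cancel (A (x : Ω → ℂ)) (μ • (x : Ω → ℂ))).symm
    refine (congrArg _ h4).trans ((LinearMap.map_add _ _ _).trans ?_)
    exact (congrArg₂ (· + ·) h2 ((LinearMap.map_smul _ μ _).trans (congrArg (μ • ·) (LinearMap.trace_id ℂ _)))).trans (zero_add _)
  -- dimensions modulo `f`
  let R : ℂ → Subrepresentation ρ := fun μ => ⟨N μ, fun g v hv =>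
    Module.End.mapsTo_maxGenEigenspace_of_comm (f := A) (g := ρ g) (LinearMap.ext fun w => hA g w) μ hv⟩
  have hdim : ∀ μ, ∃ k : ℕ, finrank ℂ (N μ) = (if μ = (n : ℂ) then 1 else 0) + f * k := fun μ => by
    have h1 := Constituents.character_expand (R μ).toRepresentation 1
    rw [Representation.char_one] at h1
    rw [← Finset.add_sum_erase _ _ (Finset.mem_univ (triv G))] at h1
    have hch : ∀ χ ∈ Finset.univ.erase (triv G), ∃ k : ℕ,
        (Constituents.mult (R μ).toRepresentation χ : ℂ) * (χ : G → ℂ) 1 = ((f * k : ℕ) : ℂ) := fun χ hχ => by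
      by_cases h0 : Constituents.mult (R μ).toRepresentation χ = 0
      · exact ⟨0, by simp [h0]⟩
      obtain ⟨C, hC⟩ := exists_isCompl_subrep ρ (R μ)
      have hle := Constituents.mult_compl ρ (R μ) C hC χ
      obtain ⟨m, hm⟩ := hf χ χ.2 (fun e => (Finset.mem_erase.1 hχ).1 (Subtype.ext e)) (by
        rw [PermModule.mult_eq]
        exact_mod_cast (show Constituents.mult ρ χ ≠ 0 by omega))
      exact ⟨Constituents.mult (R μ).toRepresentation χ * m, by rw [hm]; push_cast; ring⟩
    choose! k hk using hch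
    rw [Finset.sum_congr rfl hk, ← Nat.cast_sum, ← Finset.mul_sum, mult_triv,
      show ((triv G : Cfsg.IrrCharacter G) : G → ℂ) 1 = 1 from rfl, mul_one] at h1
    refine ⟨∑ χ ∈ Finset.univ.erase (triv G), k χ, ?_⟩
    have h2 : finrank ℂ (N μ) = finrank ℂ (R μ).toRepresentation.invariants +
        f * ∑ χ ∈ Finset.univ.erase (triv G), k χ := by
      exact_mod_cast h1
    rw [h2]
    congr 1
    have hconst : ∀ v : (R μ).toRepresentation.invariants, ∀ x, (v.1.1 : Ω → ℂ) x = v.1.1 a := fun v x => by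
      obtain ⟨g, rfl⟩ := MulAction.exists_smul_eq G a x
      have h := congrFun (congrArg Subtype.val (v.2 g)) (g • a)
      change (v.1.1 : Ω → ℂ) (g⁻¹ • g • a) = _ at h
      rw [inv_smul_smul] at h
      exact h.symm
    have hmem : (fun _ => (1 : ℂ)) ∈ N (n : ℂ) :=
      Module.End.eigenspace_le_maxGenEigenspace (Module.End.mem_eigenspace_iff.2 hone)
    by_cases hμ : μ = (n : ℂ)
    · subst hμ
      rw [if_pos rfl]
      refine finrank_eq_one (⟨⟨fun _ => 1, hmem⟩, fun g => Subtype.ext (funext fun _ => rfl)⟩ : (R (n : ℂ)).toRepresentation.invariants) ?_ fun w => ?_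
      · intro e
        have := congrFun (congrArg (fun z : (R (n : ℂ)).toRepresentation.invariants => (z.1.1 : Ω → ℂ)) e) a
        exact one_ne_zero this
      · refine ⟨w.1.1 a, Subtype.ext (Subtype.ext (funext fun x => ?_))⟩
        show w.1.1 a * 1 = w.1.1 x
        rw [mul_one]; exact (hconst w x).symm
    · rw [if_neg hμ, Submodule.finrank_eq_zero, Submodule.eq_bot_iff]
      intro v hv
      refine Subtype.ext (funext fun x => ?_)
      show v.1 x = 0
      rw [hconst ⟨v, hv⟩ x]
      by_contra hne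
      have h1 : (fun _ => (1 : ℂ)) ∈ N μ := by
        have hv2 : (v.1 a)⁻¹ • v.1 ∈ N μ := (N μ).smul_mem _ v.2
        convert hv2 using 1
        funext y
        rw [Pi.smul_apply, hconst ⟨v, hv⟩ y, smul_eq_mul, inv_mul_cancel₀ hne]
      have h2 := Submodule.disjoint_def.1 ((Module.End.independent_maxGenEigenspace A).pairwiseDisjoint hμ) _ h1 hmem
      exact one_ne_zero (congrFun h2 a)
  choose k hk using hdim
  have hz : (n : ℂ) + (f : ℂ) * ∑ μ ∈ hfin.toFinset, μ * (k μ : ℂ) = 0 := by
    refine Eq.trans ?_ (htr2.trans (Finset.sum_congr rfl fun μ _ =>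
      (htrres μ).trans (congrArg (μ * ·) (congrArg Nat.cast (hk μ))))).symm
    push_cast
    simp only [mul_add, Finset.sum_add_distrib, mul_ite, mul_one, mul_zero, Finset.sum_ite_eq']
    rw [Finset.mul_sum, if_pos]
    · exact congrArg _ (Finset.sum_congr rfl fun μ _ => mul_left_comm _ _ _)
    · rw [Set.Finite.mem_toFinset]
      intro e
      have hmem : (fun _ => (1 : ℂ)) ∈ N (n : ℂ) :=
        Module.End.eigenspace_le_maxGenEigenspace (Module.End.mem_eigenspace_iff.2 hone)
      rw [e, Submodule.mem_bot] at hmem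
      exact one_ne_zero (congrFun hmem a)
  by_cases hf0 : f = 0
  · subst hf0
    rw [Nat.cast_zero, zero_mul, add_zero, Nat.cast_eq_zero] at hz
    simp [hz]
  set w := -∑ μ ∈ hfin.toFinset, μ * (k μ : ℂ)
  have hwint : IsIntegral ℤ w := by
    refine IsIntegral.neg (IsIntegral.sum _ fun μ hμ => IsIntegral.mul ?_ ?_)
    · obtain ⟨v, hv⟩ := (hasEigenvalue_of_maxGen ((Set.Finite.mem_toFinset hfin).1 hμ)).exists_hasEigenvector
      refine isIntegral_eigenvalue (Matrix.of fun c d => if ∃ g : G, g • a = c ∧ g • b = d then 1 else 0) (fun c d => ?_) hv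
      rw [PermModule.entry_orbital, Matrix.of_apply]
      split <;> simp
    · exact_mod_cast isIntegral_algebraMap (R := ℤ) (A := ℂ) (x := (k μ : ℤ))
  have hq : algebraMap ℚ ℂ ((n : ℚ) / f) = w := by
    rw [map_div₀, map_natCast, map_natCast, div_eq_iff (by exact_mod_cast hf0)]
    linear_combination hz
  rw [← hq, isIntegral_algebraMap_iff (algebraMap ℚ ℂ).injective] at hwint
  obtain ⟨z, hzq⟩ := IsIntegrallyClosed.isIntegral_iff.1 hwint
  have : (z : ℚ) * f = n := by
    rw [show (z : ℚ) = (n : ℚ) / f from hzq, div_mul_cancel₀]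
    exact_mod_cast hf0
  have h4 : (f : ℤ) ∣ (n : ℤ) := ⟨z, by
    have : z * (f : ℤ) = n := by exact_mod_cast this
    rw [← this, mul_comm]⟩
  exact_mod_cast h4

end Cfsg.Lib.PermGroups.Subdegrees
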